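import Mathlib.GroupTheory.Schreier
import Mathlib.GroupTheory.Finiteness
import Mathlib.GroupTheory.Torsion
import Mathlib.GroupTheory.FiniteAbelian.Basic
import Mathlib.GroupTheory.GroupAction.ConjAct

/-!
# Baer's finiteness theorem for the commutator of two normal subgroups
-/

set_option autoImplicit false
set_option linter.style.haveILetI false

open scoped commutatorElement

namespace Groth.L25.GenWords.Baer

variable {Q : Type*} [Group Q]

/-- the commutators of two subgroups -/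
def S (A B : Subgroup Q) : Set Q := {g | ∃ a ∈ A, ∃ b ∈ B, ⁅a, b⁆ = g}

theorem exists_pow_eq {α : Type*} {s : Set α} (hs : s.Finite) (u : ℕ → α) (hu : ∀ n, u n ∈ s) :
    ∃ m d : ℕ, 0 < d ∧ u (m + d) = u m := by
  haveI := hs.to_subtype
  obtain ⟨i, j, hne, he⟩ := Finite.exists_ne_map_eq_of_infinite (fun n : ℕ => (⟨u n, hu n⟩ : s))
  have he' : u i = u j := congrArg Subtype.val he
  rcases lt_or_gt_of_ne hne with h | h
  · exact ⟨i, j - i, by omega, by rw [Nat.add_sub_cancel' h.le, he']⟩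
  · exact ⟨j, i - j, by omega, by rw [Nat.add_sub_cancel' h.le, he']⟩

/-- The abelian case. -/
theorem finite_of_comm (A B : Subgroup Q) [A.Normal] [B.Normal] (hfin : (S A B).Finite)
    (hcomm : ∀ x ∈ ⁅A, B⁆, ∀ y ∈ ⁅A, B⁆, x * y = y * x) : ((⁅A, B⁆ : Subgroup Q) : Set Q).Finite := by
  set C := ⁅A, B⁆ with hC
  have hCA : C ≤ A := Subgroup.commutator_le_left A B
  have hCB : C ≤ B := Subgroup.commutator_le_right A B
  have hCn : C.Normal := Subgroup.commutator_normal A B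
  have hSC : ∀ a ∈ A, ∀ b ∈ B, ⁅a, b⁆ ∈ C := fun a ha b hb => Subgroup.commutator_mem_commutator ha hb
  -- commutators with elements of `C` are torsion
  have h1 : ∀ a ∈ A, ∀ c ∈ C, IsOfFinOrder ⁅a, c⁆ := fun a ha c hc => by
    have hpow : ∀ n : ℕ, ⁅a, c ^ n⁆ = ⁅a, c⁆ ^ n := fun n => by
      induction n with
      | zero => simp [commutatorElement_def]
      | succ n ih =>
        rw [pow_succ, pow_succ, ← ih]
        have hz := hSC a ha c (hCB hc)
        have e : ⁅a, c ^ n * c⁆ = ⁅a, c ^ n⁆ * (c ^ n * ⁅a, c⁆ * (c ^ n)⁻¹) := by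
          simp only [commutatorElement_def]; group
        rw [e, hcomm _ (pow_mem hc n) _ hz, mul_inv_cancel_right]
    obtain ⟨m, d, hd, he⟩ := exists_pow_eq hfin (fun n => ⁅a, c ^ n⁆) fun n => ⟨a, ha, c ^ n, hCB (pow_mem hc n), rfl⟩
    simp only [hpow] at he
    rw [pow_add] at he
    exact isOfFinOrder_iff_pow_eq_one.2 ⟨d, hd, mul_eq_left.1 he⟩
  let T : Subgroup Q :=
    { carrier := {x | x ∈ C ∧ IsOfFinOrder x}
      one_mem' := ⟨C.one_mem, IsOfFinOrder.one⟩
      mul_mem' := fun {x y} hx hy => ⟨C.mul_mem hx.1 hy.1, Commute.isOfFinOrder_mul (hcomm x hx.1 y hy.1) hx.2 hy.2⟩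
      inv_mem' := fun {x} hx => ⟨C.inv_mem hx.1, hx.2.inv⟩ }
  -- the commutators themselves are torsion
  have h2 : ∀ g ∈ S A B, g ∈ T := by
    rintro g ⟨a, ha, b, hb, rfl⟩
    have hz := hSC a ha b hb
    have hpow : ∀ n : ℕ, ∃ t ∈ T, ⁅a ^ n, b⁆ = t * ⁅a, b⁆ ^ n := fun n => by
      induction n with
      | zero => exact ⟨1, T.one_mem, by simp [commutatorElement_def]⟩
      | succ n ih =>
        obtain ⟨t, ht, e⟩ := ih
        have hd : ⁅a, ⁅a ^ n, b⁆⁆ ∈ T :=
          ⟨hSC a ha _ (hCB (hSC _ (pow_mem ha n) b hb)), h1 a ha _ (hSC _ (pow_mem ha n) b hb)⟩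
        refine ⟨⁅a, ⁅a ^ n, b⁆⁆ * t, T.mul_mem hd ht, ?_⟩
        have e' : ⁅a ^ (n + 1), b⁆ = ⁅a, ⁅a ^ n, b⁆⁆ * ⁅a ^ n, b⁆ * ⁅a, b⁆ := by
          rw [pow_succ']; simp only [commutatorElement_def]; group
        rw [e', pow_succ]
        conv_lhs => arg 1; arg 2; rw [e]
        simp only [mul_assoc]
    obtain ⟨m, d, hd, he⟩ := exists_pow_eq hfin (fun n => ⁅a ^ n, b⁆) fun n => ⟨a ^ n, pow_mem ha n, b, hb, rfl⟩
    obtain ⟨t, ht, et⟩ := hpow (m + d)
    obtain ⟨t', ht', et'⟩ := hpow m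
    rw [et, et', pow_add] at he
    rw [← (Commute.pow_pow_self ⁅a, b⁆ d m).eq, ← mul_assoc] at he
    have hdT : ⁅a, b⁆ ^ d ∈ T := by
      have := T.mul_mem (T.inv_mem ht) ht'
      rwa [← mul_right_cancel he, inv_mul_cancel_left] at this
    exact ⟨hz, hdT.2.of_pow hd.ne'⟩
  have hCT : C ≤ T := (Subgroup.commutator_le).2 fun a ha b hb => h2 _ ⟨a, ha, b, hb, rfl⟩
  letI : CommGroup C := { (inferInstance : Group C) with mul_comm := fun x y => Subtype.ext (hcomm _ x.2 _ y.2) }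
  haveI : Group.FG C := (Group.fg_iff_subgroup_fg C).2
    ((Subgroup.fg_iff C).2 ⟨S A B, rfl, hfin⟩)
  haveI : Finite C := CommGroup.finite_of_fg_isMulTorsion C fun x => Submonoid.isOfFinOrder_coe.1 (hCT x.2).2
  exact Set.toFinite _

/-- Two normal subgroups with finitely many commutators have finite commutator subgroup. -/
theorem finite_commutator (A B : Subgroup Q) [A.Normal] [B.Normal] (hfin : (S A B).Finite) :
    ((⁅A, B⁆ : Subgroup Q) : Set Q).Finite := by
  classical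
  set C := ⁅A, B⁆ with hC
  have hconj : ∀ g : Q, ∀ x ∈ S A B, g * x * g⁻¹ ∈ S A B := by
    rintro g _ ⟨a, ha, b, hb, rfl⟩
    exact ⟨g * a * g⁻¹, ‹A.Normal›.conj_mem a ha g, g * b * g⁻¹, ‹B.Normal›.conj_mem b hb g,
      by simp only [commutatorElement_def]; group⟩
  haveI := hfin.to_subtype
  -- the centre of `C` has finite index
  have hcs : Finite (commutatorSet C) := by
    let φ : C → (S A B → S A B) := fun g x => ⟨(g : Q) * x * (g : Q)⁻¹, hconj g x x.2⟩
    have hφ : ∀ g g' : C, φ g = φ g' → g'⁻¹ * g ∈ Subgroup.center C := fun g g' e => by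
      rw [Subgroup.mem_center_iff]
      intro z
      apply Subtype.ext
      have hz : (z : Q) ∈ Subgroup.centralizer {((g' : Q)⁻¹ * g)} := by
        refine (Subgroup.closure_le _).2 (fun x hx => ?_) z.2
        rw [SetLike.mem_coe, Subgroup.mem_centralizer_singleton_iff]
        have := congrArg (fun f => ((f ⟨x, hx⟩ : S A B) : Q)) e
        simp only [φ] at this
        symm
        calc (g' : Q)⁻¹ * g * x = (g' : Q)⁻¹ * (g * x * (g : Q)⁻¹) * g := by group
          _ = (g' : Q)⁻¹ * (g' * x * (g' : Q)⁻¹) * g := by rw [this]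
          _ = x * ((g' : Q)⁻¹ * g) := by group
      rw [Subgroup.mem_centralizer_singleton_iff] at hz
      simpa using hz
    choose rep hrep using fun v : Set.range φ => v.2
    have key : ∀ g : C, ∃ z ∈ Subgroup.center C, g = rep ⟨φ g, g, rfl⟩ * z := fun g =>
      ⟨_, hφ g _ (hrep ⟨φ g, g, rfl⟩).symm, (mul_inv_cancel_left _ g).symm⟩
    refine (Set.Finite.subset (Set.finite_range fun p : Set.range φ × Set.range φ => ⁅rep p.1, rep p.2⁆) ?_).to_subtype
    rintro _ ⟨g₁, g₂, rfl⟩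
    obtain ⟨z₁, hz₁, e₁⟩ := key g₁
    obtain ⟨z₂, hz₂, e₂⟩ := key g₂
    refine ⟨(⟨φ g₁, g₁, rfl⟩, ⟨φ g₂, g₂, rfl⟩), ?_⟩
    have h1 : ∀ w, w * z₁ = z₁ * w := Subgroup.mem_center_iff.1 hz₁
    have h2 : ∀ w, w * z₂ = z₂ * w := Subgroup.mem_center_iff.1 hz₂
    conv_rhs => rw [e₁, e₂]
    set r₁ := rep ⟨φ g₁, g₁, rfl⟩
    set r₂ := rep ⟨φ g₂, g₂, rfl⟩
    simp only [commutatorElement_def, mul_inv_rev]
    have c1 : ∀ w, z₁ * w * z₁⁻¹ = w := fun w => by rw [← h1, mul_inv_cancel_right]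
    have c2 : ∀ w, z₂ * w * z₂⁻¹ = w := fun w => by rw [← h2, mul_inv_cancel_right]
    calc r₁ * r₂ * r₁⁻¹ * r₂⁻¹ = r₁ * (z₁ * r₂ * z₁⁻¹) * r₁⁻¹ * r₂⁻¹ := by rw [c1]
      _ = r₁ * z₁ * r₂ * (z₂ * (z₁⁻¹ * r₁⁻¹) * z₂⁻¹) * r₂⁻¹ := by rw [c2]; group
      _ = _ := by group
  haveI := hcs
  haveI : Finite (commutator C) := inferInstance
  let N : Subgroup Q := ⁅C, C⁆
  haveI : C.Normal := Subgroup.commutator_normal A B
  haveI : N.Normal := Subgroup.commutator_normal C C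
  have hN : (N : Set Q).Finite := by
    have : N = (commutator C).map C.subtype := by
      rw [commutator_def, Subgroup.map_commutator, ← MonoidHom.range_eq_map, Subgroup.range_subtype]
    rw [this, Subgroup.coe_map]
    exact (Set.toFinite _).image _
  let q := QuotientGroup.mk' N
  have hq := QuotientGroup.mk'_surjective N
  haveI : (A.map q).Normal := ‹A.Normal›.map q hq
  haveI : (B.map q).Normal := ‹B.Normal›.map q hq
  have hCq : ⁅A.map q, B.map q⁆ = C.map q := (Subgroup.map_commutator A B q).symm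
  have hab := finite_of_comm (A.map q) (B.map q) ((hfin.image q).subset (by
      rintro _ ⟨_, ⟨a, ha, rfl⟩, _, ⟨b, hb, rfl⟩, rfl⟩
      exact ⟨⁅a, b⁆, ⟨a, ha, b, hb, rfl⟩, map_commutatorElement q a b⟩)) (by
      rw [hCq]
      rintro _ ⟨x, hx, rfl⟩ _ ⟨y, hy, rfl⟩
      rw [← map_mul, ← map_mul]
      refine (QuotientGroup.eq).2 ?_
      have : (x * y)⁻¹ * (y * x) = ⁅y⁻¹, x⁻¹⁆ := by simp only [commutatorElement_def]; group
      rw [this]
      exact Subgroup.commutator_mem_commutator (C.inv_mem hy) (C.inv_mem hx))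
  rw [hCq, Subgroup.coe_map] at hab
  -- finitely many cosets of a finite subgroup
  choose r hr using fun v : q '' (C : Set Q) => v.2
  haveI := hab.to_subtype
  refine (Set.finite_iUnion fun v : q '' (C : Set Q) => hN.image (fun n => r v * n)).subset fun x hx => ?_
  refine Set.mem_iUnion.2 ⟨⟨q x, x, hx, rfl⟩, (r ⟨q x, x, hx, rfl⟩)⁻¹ * x, ?_, mul_inv_cancel_left _ x⟩
  exact QuotientGroup.eq.1 ((hr ⟨q x, x, hx, rfl⟩).2)

end Groth.L25.GenWords.Baer
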