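import Groth.Agent.L25.GenWords.Closed
import Groth.Agent.L25.GenWords.Baer
import Groth.Agent.L25.Component

/-!
# The commutator subgroup of rational points is closed and swept out by finitely many words
-/

set_option autoImplicit false
set_option linter.style.haveILetI false
set_option linter.unusedSectionVars false
set_option backward.isDefEq.respectTransparency.types false

universe u

open CategoryTheory CategoryTheory.Limits MonoidalCategory CartesianMonoidalCategory MonObj AlgebraicGeometry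
open TopologicalSpace Topology
open scoped commutatorElement

noncomputable section

namespace Groth.L25.GenWords

open Groth.L25.Solv (pt)

variable {k : Type u} [Field k] [IsAlgClosed k] {G : Over (Spec (CommRingCat.of k))} [GrpObj G]

/-- the image subgroup of rational points -/
def img {A : Over (Spec (CommRingCat.of k))} [GrpObj A] (a : A ⟶ G) [IsMonHom a] : Subgroup (pts G) where
  carrier := Set.range fun x : pts A => x ≫ a
  one_mem' := ⟨1, MonObj.one_comp a⟩
  mul_mem' := by rintro _ _ ⟨x, rfl⟩ ⟨y, rfl⟩; exact ⟨x * y, MonObj.mul_comp x y a⟩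
  inv_mem' := by rintro _ ⟨x, rfl⟩; exact ⟨x⁻¹, GrpObj.inv_comp x a⟩

theorem closure_range_eq_img {A : Over (Spec (CommRingCat.of k))} [GrpObj A] (a : A ⟶ G) [IsMonHom a] :
    Subgroup.closure (Set.range fun x : pts A => x ≫ a) = img a := Subgroup.closure_eq (img a)

theorem comp_comm_pt {A B : Over (Spec (CommRingCat.of k))} (a : A ⟶ G) (b : B ⟶ G) (x : pts A) (y : pts B) :
    lift x y ≫ comm a b = ⁅x ≫ a, y ≫ b⁆ := by
  rw [comp_comm, lift_fst, lift_snd, commutatorElement_def]

variable [LocallyOfFiniteType G.hom]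

/-- Finitely many cosets of a closed family in a generated subgroup give a closed set swept out by words. -/
theorem exists_finite_words {X : Over (Spec (CommRingCat.of k))} [LocallyOfFiniteType X.hom] (f : X ⟶ G)
    (K : Subgroup (pts G)) (hK : K = Subgroup.closure (Set.range fun x : pts X => x ≫ f))
    (D : Set G.left) (hD : IsClosed D) (l₀ : List Bool) (hDl : D ⊆ Set.range (word f l₀).left)
    (R : Set (pts G)) (hR : R.Finite) (hRK : R ⊆ K)
    (hcov : ∀ g ∈ K, ∃ r ∈ R, pt G (r⁻¹ * g) ∈ D) :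
    ∃ L : Set (List Bool), L.Finite ∧ IsClosed (⋃ l ∈ L, Set.range (word f l).left) ∧
      (∀ l, Set.range (word f l).left ⊆ ⋃ l' ∈ L, Set.range (word f l').left) ∧
      ∀ g : pts G, g ∈ K ↔ pt G g ∈ ⋃ l ∈ L, Set.range (word f l).left := by
  haveI : JacobsonSpace G.left := LocallyOfFiniteType.jacobsonSpace G.hom
  have hlft : ∀ l : List Bool, LocallyOfFiniteType (W X l).hom := fun l => by
    induction l with
    | nil => exact inferInstanceAs (LocallyOfFiniteType (𝟙 (Spec (CommRingCat.of k))))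
    | cons b l ih =>
      haveI := ih
      exact inferInstanceAs (LocallyOfFiniteType (pullback.fst X.hom (W X l).hom ≫ X.hom))
  -- words land in the subgroup
  have hwK : ∀ (l : List Bool) (p : pts (W X l)), p ≫ word f l ∈ K := by
    intro l
    induction l with
    | nil => intro p; exact (MonObj.comp_one (M := G) p).symm ▸ K.one_mem
    | cons b l ih =>
      suffices hs : ∀ p : pts (X ⊗ W X l),
          p ≫ ((fst X (W X l) ≫ (if b then f else f⁻¹)) * (snd X (W X l) ≫ word f l)) ∈ K from hs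
      intro p
      rw [MonObj.comp_mul, ← Category.assoc, ← Category.assoc]
      refine K.mul_mem ?_ (ih _)
      have : (p ≫ fst X (W X l)) ≫ f ∈ K := hK ▸ Subgroup.subset_closure ⟨_, rfl⟩
      cases b
      · show _ ≫ f⁻¹ ∈ K
        rw [GrpObj.comp_inv]
        exact K.inv_mem this
      · exact this
  -- elements of the subgroup are words
  have hKw : ∀ g ∈ K, ∃ (l : List Bool) (p : pts (W X l)), p ≫ word f l = g := by
    intro g hg
    rw [hK] at hg
    induction hg using Subgroup.closure_induction with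
    | mem x hx =>
      obtain ⟨y, rfl⟩ := hx
      obtain ⟨r, hr⟩ := exists_single f true
      exact ⟨[true], y ≫ r, by rw [Category.assoc, hr]; rfl⟩
    | one => exact ⟨[], 𝟙 _, Category.id_comp _⟩
    | mul x y _ _ ihx ihy =>
      obtain ⟨l, p, rfl⟩ := ihx
      obtain ⟨l', p', rfl⟩ := ihy
      obtain ⟨r, hr⟩ := exists_append f l l'
      exact ⟨l ++ l', lift p p' ≫ r, by rw [Category.assoc, hr, MonObj.comp_mul, lift_fst_assoc, lift_snd_assoc]⟩
    | inv x _ ihx =>
      obtain ⟨l, p, rfl⟩ := ihx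
      obtain ⟨l', r, hr⟩ := exists_inv f l
      exact ⟨l', p ≫ r, by rw [Category.assoc, hr, GrpObj.comp_inv]⟩
  choose lw pw hpw using fun r : R => hKw r.1 (hRK r.2)
  haveI := hR.to_subtype
  let ψ : pts G → (G ⟶ G) := fun r => (toUnit G ≫ r⁻¹) * 𝟙 G
  have hψ : ∀ r g : pts G, g ≫ ψ r = r⁻¹ * g := fun r g => by
    rw [MonObj.comp_mul, Solv.const_comp, Category.comp_id]
  let Y : Set G.left := ⋃ r : R, (ψ r.1).left ⁻¹' D
  have hY : IsClosed Y := isClosed_iUnion_of_finite fun r => hD.preimage (ψ r.1).left.continuous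
  let L : Set (List Bool) := Set.range fun r : R => lw r ++ l₀
  have hYL : Y ⊆ ⋃ l ∈ L, Set.range (word f l).left := by
    rintro x hx
    obtain ⟨r, hr⟩ := Set.mem_iUnion.1 hx
    obtain ⟨w, hw⟩ := hDl hr
    refine Set.mem_biUnion ⟨r, rfl⟩ ?_
    obtain ⟨s, hs⟩ := exists_append f (lw r) l₀
    let m : W X l₀ ⟶ G := (toUnit _ ≫ r.1) * word f l₀
    refine ⟨(lift (toUnit _ ≫ pw r) (𝟙 _) ≫ s).left w, ?_⟩
    have e : (lift (toUnit _ ≫ pw r) (𝟙 (W X l₀)) ≫ s) ≫ word f (lw r ++ l₀) =
        word f l₀ ≫ ((toUnit G ≫ r.1) * 𝟙 G) := by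
      rw [Category.assoc, hs, MonObj.comp_mul, lift_fst_assoc, lift_snd_assoc, Category.id_comp, Category.assoc,
        hpw, MonObj.comp_mul, Category.comp_id, ← Category.assoc, comp_toUnit]
    refine (congrArg (fun q : W X l₀ ⟶ G => q.left w) e).trans ?_
    show ((toUnit G ≫ r.1) * 𝟙 G).left ((word f l₀).left w) = x
    rw [hw, ← Scheme.Hom.comp_apply, ← Over.comp_left]
    have : ψ r.1 ≫ ((toUnit G ≫ r.1) * 𝟙 G) = 𝟙 G := by
      rw [MonObj.comp_mul, Category.comp_id, ← Category.assoc, comp_toUnit]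
      show (toUnit G ≫ r.1) * ((toUnit G ≫ (r.1)⁻¹) * 𝟙 G) = 𝟙 G
      rw [← _root_.mul_assoc, ← MonObj.comp_mul, mul_inv_cancel, MonObj.comp_one, _root_.one_mul]
    rw [this]
    rfl
  have hLY : ∀ l, Set.range (word f l).left ⊆ Y := by
    intro l
    haveI := hlft l
    haveI : JacobsonSpace (W X l).left := LocallyOfFiniteType.jacobsonSpace (W X l).hom
    rintro _ ⟨x, rfl⟩
    suffices h : closure (closedPoints (W X l).left) ⊆ (word f l).left ⁻¹' Y from
      h (closure_closedPoints (X := (W X l).left) ▸ Set.mem_univ x)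
    refine closure_minimal (fun z hz => ?_) (hY.preimage (word f l).left.continuous)
    obtain ⟨⟨p, hp⟩, hpz⟩ := (pointEquivClosedPoint (W X l).hom).surjective ⟨z, hz⟩
    obtain ⟨r, hr, hrD⟩ := hcov _ (hwK l (Over.homMk p hp))
    refine Set.mem_iUnion.2 ⟨⟨r, hr⟩, ?_⟩
    rw [← hψ] at hrD
    have e : z = p (IsLocalRing.closedPoint k) := (congrArg Subtype.val hpz).symm
    rw [e]
    exact hrD
  have heq : (⋃ l ∈ L, Set.range (word f l).left) = Y :=
    subset_antisymm (Set.iUnion₂_subset fun l _ => hLY l) hYL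
  refine ⟨L, Set.finite_range _, heq ▸ hY, fun l => heq.symm ▸ hLY l, fun g => ?_⟩
  constructor
  · intro hg
    obtain ⟨l, p, rfl⟩ := hKw g hg
    exact heq.symm ▸ hLY l (pt_mem_range _ p)
  · intro hg
    obtain ⟨l, hl, hgl⟩ := Set.mem_iUnion₂.1 hg
    haveI := hlft l
    obtain ⟨p, rfl⟩ := exists_lift_pt (word f l) g hgl
    exact hwK l p

variable {A B : Over (Spec (CommRingCat.of k))} [GrpObj A] [GrpObj B]
  [LocallyOfFiniteType A.hom] [LocallyOfFiniteType B.hom] (a : A ⟶ G) [IsMonHom a] (b : B ⟶ G) [IsMonHom b]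

/-- A family of commutators out of two connected components. -/
theorem exists_cand (H : Subgroup (pts G)) (x₀ : pts A) (y₀ : pts B) (h1 : ⁅x₀ ≫ a, y₀ ≫ b⁆ = 1)
    (hmem : ∀ (x : pts A) (y : pts B), pt A x ∈ connectedComponent (pt A x₀) →
      pt B y ∈ connectedComponent (pt B y₀) → ⁅x ≫ a, y ≫ b⁆ ∈ H)
    (x : pts A) (y : pts B) (hx : pt A x ∈ connectedComponent (pt A x₀))
    (hy : pt B y ∈ connectedComponent (pt B y₀)) :
    ∃ (c : Cand (comm a b) H) (p : pts c.P), p ≫ c.φ = ⁅x ≫ a, y ≫ b⁆ := by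
  haveI : IsLocallyNoetherian A.left := LocallyOfFiniteType.isLocallyNoetherian A.hom
  haveI : IsLocallyNoetherian B.left := LocallyOfFiniteType.isLocallyNoetherian B.hom
  let OA : A.left.Opens := ⟨connectedComponent (pt A x₀),
    Component.isOpen_of_mem A (Component.connectedComponent_mem A _)⟩
  let OB : B.left.Opens := ⟨connectedComponent (pt B y₀),
    Component.isOpen_of_mem B (Component.connectedComponent_mem B _)⟩
  let A' : Over (Spec (CommRingCat.of k)) := Over.mk (OA.ι ≫ A.hom)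
  let B' : Over (Spec (CommRingCat.of k)) := Over.mk (OB.ι ≫ B.hom)
  let iA : A' ⟶ A := Over.homMk OA.ι rfl
  let iB : B' ⟶ B := Over.homMk OB.ι rfl
  haveI : IsOpenImmersion iA.left := inferInstanceAs (IsOpenImmersion OA.ι)
  haveI : IsOpenImmersion iB.left := inferInstanceAs (IsOpenImmersion OB.ι)
  have hirr : ∀ {T : Scheme.{u}} (O : T.Opens), IsIrreducible (O : Set T) → IrreducibleSpace (O : Scheme.{u}) :=
    fun {T} O hO => by
      haveI : Nonempty (O : Scheme.{u}) := ⟨⟨_, hO.nonempty.choose_spec⟩⟩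
      haveI : PreirreducibleSpace (O : Scheme.{u}) := ⟨by
        have := hO.2.preimage O.ι.isOpenEmbedding
        rwa [← Scheme.Opens.range_ι O, Set.preimage_range] at this⟩
      exact ⟨inferInstance⟩
  haveI : IrreducibleSpace A'.left := hirr OA (Component.connectedComponent_mem A _).1
  haveI : IrreducibleSpace B'.left := hirr OB (Component.connectedComponent_mem B _).1
  haveI : LocallyOfFiniteType A'.hom := inferInstanceAs (LocallyOfFiniteType (OA.ι ≫ A.hom))
  haveI : LocallyOfFiniteType B'.hom := inferInstanceAs (LocallyOfFiniteType (OB.ι ≫ B.hom))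
  haveI : CompactSpace A'.left :=
    isCompact_iff_compactSpace.1 (Component.isCompact_connectedComponent A (pt A x₀))
  haveI : CompactSpace B'.left :=
    isCompact_iff_compactSpace.1 (Component.isCompact_connectedComponent B (pt B y₀))
  haveI : QuasiCompact A'.hom := quasiCompact_of_compactSpace _
  haveI : QuasiCompact B'.hom := quasiCompact_of_compactSpace _
  have hl : ∀ (z : pts A), pt A z ∈ connectedComponent (pt A x₀) → ∃ z' : pts A', z' ≫ iA = z := fun z hz =>
    exists_lift_pt iA z (show pt A z ∈ Set.range OA.ι by rw [Scheme.Opens.range_ι]; exact hz)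
  have hr : ∀ (z : pts B), pt B z ∈ connectedComponent (pt B y₀) → ∃ z' : pts B', z' ≫ iB = z := fun z hz =>
    exists_lift_pt iB z (show pt B z ∈ Set.range OB.ι by rw [Scheme.Opens.range_ι]; exact hz)
  have hval : ∀ (p : pts (A' ⊗ B')), p ≫ (iA ⊗ₘ iB) ≫ comm a b =
      ⁅((p ≫ fst A' B') ≫ iA) ≫ a, ((p ≫ snd A' B') ≫ iB) ≫ b⁆ := fun p => by
    rw [← Category.assoc, comp_comm, commutatorElement_def]
    simp only [Category.assoc, tensorHom_fst_assoc, tensorHom_snd_assoc]
  obtain ⟨x₀', hx₀⟩ := hl x₀ mem_connectedComponent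
  obtain ⟨y₀', hy₀⟩ := hr y₀ mem_connectedComponent
  obtain ⟨x', hx'⟩ := hl x hx
  obtain ⟨y', hy'⟩ := hr y hy
  let c : Cand (comm a b) H :=
    { P := A' ⊗ B'
      lft := inferInstanceAs (LocallyOfFiniteType (pullback.fst A'.hom B'.hom ≫ A'.hom))
      qc := inferInstanceAs (QuasiCompact (pullback.fst A'.hom B'.hom ≫ A'.hom))
      irr := irreducibleSpace_tensor A' B'
      φ := (iA ⊗ₘ iB) ≫ comm a b
      fac := by
        obtain ⟨r, hr⟩ := exists_single (comm a b) true
        exact ⟨[true], (iA ⊗ₘ iB) ≫ r, by rw [Category.assoc, hr]; rfl⟩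
      e := lift x₀' y₀'
      he := by rw [hval, lift_fst, lift_snd, hx₀, hy₀, h1]
      mem := fun p => by
        rw [hval]
        refine hmem _ _ ?_ ?_
        · exact (Scheme.Opens.range_ι OA).le ⟨(p ≫ fst A' B').left (IsLocalRing.closedPoint k), rfl⟩
        · exact (Scheme.Opens.range_ι OB).le ⟨(p ≫ snd A' B').left (IsLocalRing.closedPoint k), rfl⟩ }
  exact ⟨c, lift x' y', by rw [hval, lift_fst, lift_snd, hx', hy']⟩

theorem commutator_eq_closure :
    (⁅img a, img b⁆ : Subgroup (pts G)) = Subgroup.closure (Set.range fun p : pts (A ⊗ B) => p ≫ comm a b) := by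
  rw [Subgroup.commutator_def]
  congr 1
  ext g
  constructor
  · rintro ⟨_, ⟨x, rfl⟩, _, ⟨y, rfl⟩, rfl⟩
    exact ⟨lift x y, comp_comm_pt a b x y⟩
  · rintro ⟨p, rfl⟩
    refine ⟨_, ⟨p ≫ fst A B, rfl⟩, _, ⟨p ≫ snd A B, rfl⟩, ?_⟩
    have e : lift (p ≫ fst A B) (p ≫ snd A B) = p := by rw [← comp_lift, lift_fst_snd, Category.comp_id]
    exact (comp_comm_pt a b _ _).symm.trans (congrArg (· ≫ comm a b) e)

/-- The images of the rational points of a normal subgroup, and of its neutral component, are normal. -/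
theorem normal_img [Mono a] (hn : AlgGrp.IsNormalHom a) :
    (img a).Normal ∧ ∀ (g : pts G) (x : pts A), x ∈ Solv.neutral A →
      ∃ x' ∈ Solv.neutral A, x' ≫ a = g * (x ≫ a) * g⁻¹ := by
  refine ⟨⟨?_⟩, fun g x hx => ?_⟩
  · rintro _ ⟨x, rfl⟩ g
    obtain ⟨x', hx'⟩ := hn _ g x
    exact ⟨x', hx'.symm⟩
  · obtain ⟨σ, hσ⟩ := hn A (toUnit A ≫ g) (𝟙 A)
    have hp : ∀ z : pts A, (z ≫ σ) ≫ a = g * (z ≫ a) * g⁻¹ := fun z => by
      rw [Category.assoc, ← hσ]
      simp only [MonObj.comp_mul, GrpObj.comp_inv, Category.id_comp, Solv.const_comp]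
      rw [← Category.assoc z, toUnit_unique (z ≫ toUnit A) (𝟙 _), Category.id_comp]
    have h1 : (1 : pts A) ≫ σ = 1 := by
      rw [← cancel_mono a, hp, MonObj.one_comp, _root_.mul_one, mul_inv_cancel]
    refine ⟨x ≫ σ, ?_, hp x⟩
    have h := Solv.mem_component_comp A σ hx
    rwa [h1] at h

/-- The commutator subgroup of rational points is closed and swept out by finitely many words. -/
theorem exists_comm_words
    (hcase : ConnectedSpace A.left ∨
      (Mono a ∧ AlgGrp.IsNormalHom a ∧ Mono b ∧ AlgGrp.IsNormalHom b ∧ QuasiCompact A.hom ∧ QuasiCompact B.hom)) :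
    ∃ L : Set (List Bool), L.Finite ∧ IsClosed (⋃ l ∈ L, Set.range (word (comm a b) l).left) ∧
      (∀ l, Set.range (word (comm a b) l).left ⊆ ⋃ l' ∈ L, Set.range (word (comm a b) l').left) ∧
      ∀ g : pts G, g ∈ (⁅img a, img b⁆ : Subgroup (pts G)) ↔
        pt G g ∈ ⋃ l ∈ L, Set.range (word (comm a b) l).left := by
  haveI : LocallyOfFiniteType (A ⊗ B).hom :=
    inferInstanceAs (LocallyOfFiniteType (pullback.fst A.hom B.hom ≫ A.hom))
  have hgen : ∀ (x : pts A) (y : pts B), ⁅x ≫ a, y ≫ b⁆ ∈ (⁅img a, img b⁆ : Subgroup (pts G)) := fun x y =>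
    Subgroup.commutator_mem_commutator ⟨x, rfl⟩ ⟨y, rfl⟩
  rcases hcase with hA | ⟨hma, hna, hmb, hnb, hqa, hqb⟩
  · obtain ⟨D, M, l₀, hD, hMH, hMD, hDl, hc⟩ := exists_closed_subgroup (comm a b) (⁅img a, img b⁆ : Subgroup (pts G))
    refine exists_finite_words (comm a b) _ (commutator_eq_closure a b) D hD l₀ hDl {1} (Set.finite_singleton 1)
      (Set.singleton_subset_iff.2 (one_mem _)) fun g hg => ⟨1, rfl, ?_⟩
    rw [inv_one, _root_.one_mul, ← hMD]
    revert g
    rw [← SetLike.le_def, Subgroup.commutator_le]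
    rintro _ ⟨x, rfl⟩ _ ⟨y, rfl⟩
    obtain ⟨c, p, hp⟩ := exists_cand a b (⁅img a, img b⁆) (1 : pts A) y (by rw [MonObj.one_comp, commutatorElement_one_left])
      (fun x y _ _ => hgen x y) x y (by rw [PreconnectedSpace.connectedComponent_eq_univ]; trivial) mem_connectedComponent
    exact hp ▸ hc c p
  · haveI := hma
    haveI := hmb
    obtain ⟨hIA, hA0⟩ := normal_img a hna
    obtain ⟨hIB, hB0⟩ := normal_img b hnb
    haveI := hIA
    haveI := hIB
    let IA0 : Subgroup (pts G) :=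
      { carrier := (fun x : pts A => x ≫ a) '' (Solv.neutral A : Set (pts A))
        one_mem' := ⟨1, one_mem _, MonObj.one_comp a⟩
        mul_mem' := by rintro _ _ ⟨x, hx, rfl⟩ ⟨y, hy, rfl⟩; exact ⟨x * y, mul_mem hx hy, MonObj.mul_comp x y a⟩
        inv_mem' := by rintro _ ⟨x, hx, rfl⟩; exact ⟨x⁻¹, inv_mem hx, GrpObj.inv_comp x a⟩ }
    let IB0 : Subgroup (pts G) :=
      { carrier := (fun x : pts B => x ≫ b) '' (Solv.neutral B : Set (pts B))
        one_mem' := ⟨1, one_mem _, MonObj.one_comp b⟩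
        mul_mem' := by rintro _ _ ⟨x, hx, rfl⟩ ⟨y, hy, rfl⟩; exact ⟨x * y, mul_mem hx hy, MonObj.mul_comp x y b⟩
        inv_mem' := by rintro _ ⟨x, hx, rfl⟩; exact ⟨x⁻¹, inv_mem hx, GrpObj.inv_comp x b⟩ }
    haveI : IA0.Normal := ⟨by rintro _ ⟨x, hx, rfl⟩ g; obtain ⟨x', h, e⟩ := hA0 g x hx; exact ⟨x', h, e⟩⟩
    haveI : IB0.Normal := ⟨by rintro _ ⟨x, hx, rfl⟩ g; obtain ⟨x', h, e⟩ := hB0 g x hx; exact ⟨x', h, e⟩⟩
    let M0 : Subgroup (pts G) := ⁅IA0, img b⁆ ⊔ ⁅img a, IB0⁆
    haveI : (⁅IA0, img b⁆ : Subgroup (pts G)).Normal := Subgroup.commutator_normal _ _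
    haveI : (⁅img a, IB0⁆ : Subgroup (pts G)).Normal := Subgroup.commutator_normal _ _
    haveI hM0 : M0.Normal := Subgroup.sup_normal _ _
    have hM0K : M0 ≤ ⁅img a, img b⁆ := sup_le
      (Subgroup.commutator_mono (by rintro _ ⟨x, -, rfl⟩; exact ⟨x, rfl⟩) le_rfl)
      (Subgroup.commutator_mono le_rfl (by rintro _ ⟨x, -, rfl⟩; exact ⟨x, rfl⟩))
    have hm1 : ∀ x ∈ Solv.neutral A, ∀ y : pts B, ⁅x ≫ a, y ≫ b⁆ ∈ M0 := fun x hx y =>
      le_sup_left (a := (⁅IA0, img b⁆ : Subgroup (pts G))) (Subgroup.commutator_mem_commutator ⟨x, hx, rfl⟩ ⟨y, rfl⟩)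
    have hm2 : ∀ x : pts A, ∀ y ∈ Solv.neutral B, ⁅x ≫ a, y ≫ b⁆ ∈ M0 := fun x y hy =>
      le_sup_right (b := (⁅img a, IB0⁆ : Subgroup (pts G))) (Subgroup.commutator_mem_commutator ⟨x, rfl⟩ ⟨y, hy, rfl⟩)
    obtain ⟨D, M, l₀, hD, hMH, hMD, hDl, hc⟩ := exists_closed_subgroup (comm a b) M0
    have hM0M : M0 ≤ M := by
      refine sup_le ?_ ?_
      · refine Subgroup.commutator_le.2 ?_
        rintro _ ⟨x, hx, rfl⟩ _ ⟨y, rfl⟩
        obtain ⟨c, p, hp⟩ := exists_cand a b M0 (1 : pts A) y (by rw [MonObj.one_comp, commutatorElement_one_left])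
          (fun x' y' h _ => hm1 x' h y') x y hx mem_connectedComponent
        exact hp ▸ hc c p
      · refine Subgroup.commutator_le.2 ?_
        rintro _ ⟨x, rfl⟩ _ ⟨y, hy, rfl⟩
        obtain ⟨c, p, hp⟩ := exists_cand a b M0 x (1 : pts B) (by rw [MonObj.one_comp, commutatorElement_one_right])
          (fun x' y' _ h => hm2 x' y' h) x y mem_connectedComponent hy
        exact hp ▸ hc c p
    -- finitely many commutators modulo the closed part
    let q := QuotientGroup.mk' M0
    have hq := QuotientGroup.mk'_surjective M0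
    haveI : ((img a).map q).Normal := hIA.map q hq
    haveI : ((img b).map q).Normal := hIB.map q hq
    have hfinq : ∀ (Z : Over (Spec (CommRingCat.of k))) [GrpObj Z] [LocallyOfFiniteType Z.hom] [QuasiCompact Z.hom],
        Finite (pts Z ⧸ Solv.neutral Z) := fun Z _ _ _ => by
      haveI : IsLocallyNoetherian Z.left := LocallyOfFiniteType.isLocallyNoetherian Z.hom
      haveI : CompactSpace Z.left := (HasAffineProperty.iff_of_isAffine (P := @QuasiCompact)).1 ‹_›
      haveI : IsNoetherian Z.left := { }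
      haveI := (NoetherianSpace.finite_irreducibleComponents (α := Z.left)).to_subtype
      haveI : Finite (ConnectedComponents Z.left) :=
        Finite.of_surjective (fun T : irreducibleComponents Z.left => ConnectedComponents.mk T.2.1.nonempty.some)
          fun c => by
            obtain ⟨x, rfl⟩ := ConnectedComponents.surjective_coe c
            refine ⟨⟨irreducibleComponent x, irreducibleComponent_mem_irreducibleComponents x⟩,
              ConnectedComponents.coe_eq_coe'.2 ?_⟩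
            exact isIrreducible_irreducibleComponent.isConnected.subset_connectedComponent mem_irreducibleComponent
              (Set.Nonempty.some_mem _)
      exact (Solv.card_quotient Z (Nat.card (ConnectedComponents Z.left)) (by rw [ENat.card_eq_coe_natCard])).1
    haveI := hfinq A
    haveI := hfinq B
    have hfin : (Baer.S ((img a).map q) ((img b).map q)).Finite := by
      refine (Set.finite_range fun p : (pts A ⧸ Solv.neutral A) × (pts B ⧸ Solv.neutral B) =>
        q ⁅Quotient.out p.1 ≫ a, Quotient.out p.2 ≫ b⁆).subset ?_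
      rintro _ ⟨_, ⟨_, ⟨x, rfl⟩, rfl⟩, _, ⟨_, ⟨y, rfl⟩, rfl⟩, rfl⟩
      refine ⟨(x, y), ?_⟩
      dsimp only
      set x₁ := Quotient.out (x : pts A ⧸ Solv.neutral A)
      set y₁ := Quotient.out (y : pts B ⧸ Solv.neutral B)
      have hx : x₁⁻¹ * x ∈ Solv.neutral A := QuotientGroup.eq.1 (QuotientGroup.out_eq' _)
      have hy : y₁⁻¹ * y ∈ Solv.neutral B := QuotientGroup.eq.1 (QuotientGroup.out_eq' _)
      have ex : x ≫ a = (x₁ ≫ a) * ((x₁⁻¹ * x) ≫ a) := by rw [← MonObj.mul_comp, mul_inv_cancel_left]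
      have ey : y ≫ b = (y₁ ≫ b) * ((y₁⁻¹ * y) ≫ b) := by rw [← MonObj.mul_comp, mul_inv_cancel_left]
      have h1 : q ⁅(x₁⁻¹ * x) ≫ a, y ≫ b⁆ = 1 := (QuotientGroup.eq_one_iff _).2 (hm1 _ hx y)
      have h2 : q ⁅x₁ ≫ a, (y₁⁻¹ * y) ≫ b⁆ = 1 := (QuotientGroup.eq_one_iff _).2 (hm2 _ _ hy)
      have key : ∀ u v w : pts G, ⁅u * v, w⁆ = u * ⁅v, w⁆ * u⁻¹ * ⁅u, w⁆ := fun u v w => by
        simp only [commutatorElement_def]; group
      have key' : ∀ u v w : pts G, ⁅u, v * w⁆ = ⁅u, v⁆ * (v * ⁅u, w⁆ * v⁻¹) := fun u v w => by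
        simp only [commutatorElement_def]; group
      rw [← map_commutatorElement, ex, key, map_mul, map_mul, map_mul, h1, _root_.mul_one, map_inv, mul_inv_cancel,
        _root_.one_mul, ey, key', map_mul, map_mul, map_mul, h2, _root_.mul_one, map_inv, mul_inv_cancel,
        _root_.mul_one]
    have hfinK := Baer.finite_commutator ((img a).map q) ((img b).map q) hfin
    rw [← Subgroup.map_commutator, Subgroup.coe_map] at hfinK
    choose r hr using fun v : q '' ((⁅img a, img b⁆ : Subgroup (pts G)) : Set (pts G)) => v.2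
    haveI := hfinK.to_subtype
    refine exists_finite_words (comm a b) _ (commutator_eq_closure a b) D hD l₀ hDl (Set.range r) (Set.finite_range r)
      (by rintro _ ⟨v, rfl⟩; exact (hr v).1) fun g hg => ?_
    refine ⟨r ⟨q g, g, hg, rfl⟩, ⟨_, rfl⟩, (hMD _).1 (hM0M ?_)⟩
    exact QuotientGroup.eq.1 (hr ⟨q g, g, hg, rfl⟩).2

end Groth.L25.GenWords
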