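import Groth.Agent.L25.GenWords.Spread
import Groth.Agent.L15.GenSub.BaseChange
import Groth.Agent.L25.CommWords
import Groth.Agent.Lead.Neutral
import Groth.Agent.S7795
import Groth.Agent.S5364
import Groth.Agent.L28.Fib.Univ
import Groth.Agent.L25.Homogeneous

/-!
# Existence of the commutator subgroup scheme over an open of an integral base
-/

set_option autoImplicit false
set_option maxSynthPendingDepth 3
set_option linter.style.haveILetI false
set_option linter.unusedSectionVars false
set_option backward.isDefEq.respectTransparency.types false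
set_option backward.isDefEq.respectTransparency false
set_option maxHeartbeats 2000000
set_option synthInstance.maxHeartbeats 200000

universe u

open CategoryTheory CategoryTheory.Limits MonoidalCategory CartesianMonoidalCategory MonObj AlgebraicGeometry
open Topology Groth.L25.LimHom Groth.L19.Limit

noncomputable section

namespace Groth.L25.GenWords

theorem isMonHom_comp {C : Type*} [Category C] [CartesianMonoidalCategory C] {X Y Z : C} [GrpObj X] [GrpObj Y]
    [GrpObj Z] (f : X ⟶ Y) (g : Y ⟶ Z) (hf : IsMonHom f) (hg : IsMonHom g) : IsMonHom (f ≫ g) := inferInstance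

/-- Normality is transported along isomorphisms of group objects. -/
theorem isNormalHom_of_iso {S : Scheme.{u}} {N G N' G' : Over S} [GrpObj N] [GrpObj G] [GrpObj N'] [GrpObj G']
    (j : N ⟶ G) (j' : N' ⟶ G') (eN : N ≅ N') (eG : G ≅ G') [IsMonHom eG.hom] (h : eN.hom ≫ j' = j ≫ eG.hom)
    (hj : AlgGrp.IsNormalHom j) : AlgGrp.IsNormalHom j' := by
  intro T g n
  obtain ⟨n', hn'⟩ := hj T (g ≫ eG.inv) (n ≫ eN.inv)
  refine ⟨n' ≫ eN.hom, ?_⟩
  have := congrArg (· ≫ eG.hom) hn'
  simp only [MonObj.mul_comp, GrpObj.inv_comp, Category.assoc, Iso.inv_hom_id, Category.comp_id, ← h,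
    Iso.inv_hom_id_assoc] at this
  rw [Category.assoc]
  exact this

section Conj

open scoped CategoryTheory.Obj

universe v₁ v₂ w₁ w₂

variable {C : Type w₁} [Category.{v₁} C] [CartesianMonoidalCategory C] {D : Type w₂} [Category.{v₂} D]
  [CartesianMonoidalCategory D] (F : C ⥤ D) [F.Monoidal] {G H : C} [GrpObj G] (j : H ⟶ G)

theorem map_conj : F.map (fst G H * (snd G H ≫ j) * (fst G H)⁻¹) =
    F.map (fst G H) * (F.map (snd G H) ≫ F.map j) * (F.map (fst G H))⁻¹ := by
  simp only [Functor.map_mul, Functor.map_inv', Functor.map_comp]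

theorem lift_μ_map_conj {T : D} (g : T ⟶ F.obj G) (n : T ⟶ F.obj H) :
    lift g n ≫ Functor.LaxMonoidal.μ F G H ≫ F.map (fst G H * (snd G H ≫ j) * (fst G H)⁻¹) =
      g * (n ≫ F.map j) * g⁻¹ := by
  simp only [map_conj, MonObj.comp_mul, GrpObj.comp_inv, Functor.Monoidal.μ_fst, Functor.Monoidal.μ_snd_assoc,
    lift_fst, lift_snd_assoc]

end Conj

/-- An immersion of group schemes over a field is a closed immersion. -/
theorem isClosedImmersion_of_isImmersion {k : Type u} [Field k] {A B : Over (Spec (CommRingCat.of k))} [GrpObj A]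
    [GrpObj B] (a : A ⟶ B) [IsMonHom a] [IsImmersion a.left] : IsClosedImmersion a.left :=
  IsClosedImmersion.of_isPreimmersion _ (Groth.L15.GenSub.isClosed_range_immersion a)

/-- The subgroup swept out by commutators with a connected group is connected. -/
theorem connectedSpace_of_words {k : Type u} [Field k] {G A B Γ : Over (Spec (CommRingCat.of k))} [GrpObj G]
    [GrpObj A] [GrpObj B] [GrpObj Γ] [ConnectedSpace A.left] (a : A ⟶ G) [IsMonHom a] (b : B ⟶ G) [IsMonHom b]
    (i : Γ ⟶ G) [IsMonHom i] [IsClosedImmersion i.left] (f' : A ⊗ B ⟶ Γ) (hf : f' ≫ i = comm a b)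
    (L : Set (List Bool)) (hr : Set.range i.left ⊆ ⋃ l ∈ L, Set.range (word (comm a b) l).left) :
    ConnectedSpace Γ.left := by
  haveI : Mono i := Over.mono_of_mono_left i
  let C := connectedComponent (Groth.L25.Component.one Γ)
  have hC := Groth.Lead.Neutral.component_isSubgroupSet Γ
  have hmul : ∀ {T : Over (Spec (CommRingCat.of k))} (p q : T ⟶ Γ),
      Set.range p.left ⊆ C → Set.range q.left ⊆ C → Set.range (p * q).left ⊆ C := by
    intro T p q hp hq
    rintro _ ⟨z, rfl⟩
    rw [Hom.mul_def, Over.comp_left, Scheme.Hom.comp_apply]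
    refine hC.mul_mem _ ?_ ?_
    · rw [← Scheme.Hom.comp_apply, ← Over.comp_left, lift_fst]
      exact hp ⟨z, rfl⟩
    · rw [← Scheme.Hom.comp_apply, ← Over.comp_left, lift_snd]
      exact hq ⟨z, rfl⟩
  have hinv : ∀ {T : Over (Spec (CommRingCat.of k))} (p : T ⟶ Γ),
      Set.range p.left ⊆ C → Set.range p⁻¹.left ⊆ C := by
    intro T p hp
    rintro _ ⟨z, rfl⟩
    rw [Hom.inv_def, Over.comp_left, Scheme.Hom.comp_apply]
    exact hC.inv_mem _ (hp ⟨z, rfl⟩)
  have hone : ∀ (T : Over (Spec (CommRingCat.of k))), Set.range (1 : T ⟶ Γ).left ⊆ C := by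
    intro T
    rintro _ ⟨z, rfl⟩
    rw [Hom.one_def, Over.comp_left, Scheme.Hom.comp_apply,
      show (toUnit T).left z = IsLocalRing.closedPoint k from Subsingleton.elim (α := PrimeSpectrum k) _ _]
    exact hC.one_mem
  -- the commutator morphism lands in the component
  haveI : GeometricallyConnected A.hom := RatConn.geometricallyConnected_of_section A.hom η[A].left (Over.w η[A])
  have hf' : Set.range f'.left ⊆ C := by
    rintro _ ⟨w, rfl⟩
    let y := (snd A B).left w
    let P : Over (Spec (CommRingCat.of k)) := Over.mk (B.left.fromSpecResidueField y ≫ B.hom)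
    let iP : P ⟶ B := Over.homMk (B.left.fromSpecResidueField y) rfl
    haveI : Subsingleton P.left := inferInstanceAs (Subsingleton (PrimeSpectrum (B.left.residueField y)))
    obtain ⟨pt⟩ : Nonempty P.left := inferInstanceAs (Nonempty (PrimeSpectrum (B.left.residueField y)))
    haveI : GeometricallyConnected (pullback.snd A.hom P.hom) := MorphismProperty.pullback_snd _ _ inferInstance
    haveI : ConnectedSpace (A ⊗ P).left := by
      haveI : Nonempty P.left := ⟨pt⟩
      exact GeometricallyConnected.connectedSpace_of_subsingleton (pullback.snd A.hom P.hom)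
    obtain ⟨w', hw', -⟩ := Scheme.exists_preimage_of_isPullback
      (Groth.L25.Homogeneous.isPullback_whiskerLeft A iP) w pt (B.left.fromSpecResidueField_apply y pt).symm
    let m : A ⊗ P ⟶ Γ := (A ◁ iP) ≫ f'
    let u : P ⟶ A ⊗ P := lift 1 (𝟙 P)
    have hu : u ≫ m = 1 := by
      rw [← cancel_mono i, Category.assoc, Category.assoc, hf, MonObj.one_comp, ← Category.assoc, comp_comm]
      simp only [Category.assoc, u, whiskerLeft_fst, whiskerLeft_snd, lift_fst, lift_fst_assoc, lift_snd_assoc,
        Category.id_comp, MonObj.one_comp]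
      simp
    have h1 : m.left (u.left pt) ∈ C := by
      rw [← Scheme.Hom.comp_apply, ← Over.comp_left, hu]
      exact hone P ⟨pt, rfl⟩
    have h2 : Set.range m.left ⊆ connectedComponent (m.left (u.left pt)) :=
      (isConnected_range m.left.continuous).subset_connectedComponent ⟨_, rfl⟩
    rw [← hw']
    have := h2 ⟨w', rfl⟩
    rwa [← connectedComponent_eq h1] at this
  have hword : ∀ l, ∃ h : W (A ⊗ B) l ⟶ Γ, h ≫ i = word (comm a b) l ∧ Set.range h.left ⊆ C := by
    intro l
    induction l with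
    | nil => exact ⟨1, MonObj.one_comp i, hone _⟩
    | cons e l ih =>
      obtain ⟨h, hh, hhC⟩ := ih
      suffices hs : ∃ q : (A ⊗ B) ⊗ W (A ⊗ B) l ⟶ Γ, q ≫ i = (fst (A ⊗ B) (W (A ⊗ B) l) ≫ (if e then comm a b else (comm a b)⁻¹)) *
          (snd (A ⊗ B) (W (A ⊗ B) l) ≫ word (comm a b) l) ∧ Set.range q.left ⊆ C from hs
      refine ⟨(fst _ _ ≫ (if e then f' else f'⁻¹)) * (snd _ _ ≫ h), ?_, hmul _ _ ?_ ?_⟩
      · rw [MonObj.mul_comp, Category.assoc, Category.assoc, hh]
        congr 2
        cases e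
        · show f'⁻¹ ≫ i = _
          rw [GrpObj.inv_comp, hf]
          rfl
        · exact hf
      · rw [Over.comp_left, Scheme.Hom.comp_base, TopCat.coe_comp]
        refine (Set.range_comp_subset_range _ _).trans ?_
        cases e
        · exact hinv f' hf'
        · exact hf'
      · rw [Over.comp_left, Scheme.Hom.comp_base, TopCat.coe_comp]
        exact (Set.range_comp_subset_range _ _).trans hhC
  refine connectedSpace_iff_univ.2 ?_
  have hu : C = Set.univ := Set.eq_univ_of_forall fun y => by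
    obtain ⟨l, -, z, hz⟩ := Set.mem_iUnion₂.1 (hr ⟨y, rfl⟩)
    obtain ⟨h, hh, hhC⟩ := hword l
    have : i.left (h.left z) = i.left y := by
      rw [← hz, ← hh]; rfl
    exact i.left.isEmbedding.injective this ▸ hhC ⟨z, rfl⟩
  exact hu ▸ isConnected_connectedComponent

/-- A property stable under base change passes from the residue field to the stalk at a generic point. -/
theorem bc_stalk_generic {S : Scheme.{u}} [IsIntegral S] (P : MorphismProperty Scheme.{u})
    [P.IsStableUnderBaseChange] [P.RespectsIso] (Z : Over S)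
    (hZ : P (Red.bc (S.fromSpecResidueField (genericPoint S)) Z).hom) :
    P (Red.bc (S.fromSpecStalk (genericPoint S)) Z).hom := by
  haveI : IsIso (S.residue (genericPoint S)) := (ConcreteCategory.isIso_iff_bijective _).2
    ⟨RingHom.injective (S.residue (genericPoint S)).hom, S.residue_surjective _⟩
  let ρ : Spec (S.presheaf.stalk (genericPoint S)) ⟶ Spec (S.residueField (genericPoint S)) :=
    Spec.map (inv (S.residue (genericPoint S)))
  have hρ : ρ ≫ S.fromSpecResidueField (genericPoint S) = S.fromSpecStalk (genericPoint S) := by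
    show Spec.map _ ≫ Spec.map _ ≫ _ = _
    rw [← Spec.map_comp_assoc, IsIso.hom_inv_id, Spec.map_id]
    exact Category.id_comp _
  have h : P (Red.bc ρ (Red.bc (S.fromSpecResidueField (genericPoint S)) Z)).hom :=
    MorphismProperty.pullback_snd _ ρ hZ
  haveI := Groth.L25.SpreadSub.isIso_left (cmp hρ Z).inv
  rw [← Over.w (cmp hρ Z).inv, P.cancel_left_of_respectsIso]
  exact h

theorem connectedSpace_stalk_generic {S : Scheme.{u}} [IsIntegral S] (Z : Over S)
    (hZ : ConnectedSpace (Red.bc (S.fromSpecResidueField (genericPoint S)) Z).left) :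
    ConnectedSpace (Red.bc (S.fromSpecStalk (genericPoint S)) Z).left := by
  haveI : IsIso (S.residue (genericPoint S)) := (ConcreteCategory.isIso_iff_bijective _).2
    ⟨RingHom.injective (S.residue (genericPoint S)).hom, S.residue_surjective _⟩
  let ρ : Spec (S.presheaf.stalk (genericPoint S)) ⟶ Spec (S.residueField (genericPoint S)) :=
    Spec.map (inv (S.residue (genericPoint S)))
  have hρ : ρ ≫ S.fromSpecResidueField (genericPoint S) = S.fromSpecStalk (genericPoint S) := by
    show Spec.map _ ≫ Spec.map _ ≫ _ = _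
    rw [← Spec.map_comp_assoc, IsIso.hom_inv_id, Spec.map_id]
    exact Category.id_comp _
  haveI : IsIso (pullback.fst (Red.bc (S.fromSpecResidueField (genericPoint S)) Z).hom ρ) := inferInstance
  haveI := Groth.L25.SpreadSub.isIso_left (cmp hρ Z).hom
  haveI := hZ
  let m : (Red.bc (S.fromSpecResidueField (genericPoint S)) Z).left ⟶
      (Red.bc (S.fromSpecStalk (genericPoint S)) Z).left :=
    inv (pullback.fst (Red.bc (S.fromSpecResidueField (genericPoint S)) Z).hom ρ) ≫ (cmp hρ Z).hom.left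
  exact m.homeomorph.surjective.connectedSpace m.homeomorph.continuous

/-- The commutator subgroup over a field: smooth, swept out by finitely many words. -/
theorem exists_comm_field {k : Type u} [Field k] {G A B : Over (Spec (CommRingCat.of k))} [GrpObj G] [GrpObj A]
    [GrpObj B] [LocallyOfFiniteType G.hom] [LocallyOfFiniteType A.hom] [LocallyOfFiniteType B.hom]
    [QuasiCompact A.hom] [QuasiCompact B.hom] [Smooth A.hom] [Smooth B.hom]
    (a : A ⟶ G) [IsMonHom a] [IsImmersion a.left] (b : B ⟶ G) [IsMonHom b] [IsImmersion b.left]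
    (hcase : ConnectedSpace A.left ∨ (AlgGrp.IsNormalHom a ∧ AlgGrp.IsNormalHom b)) :
    ∃ (Γ : Over (Spec (CommRingCat.of k))) (_ : GrpObj Γ) (i : Γ ⟶ G), IsMonHom i ∧ IsClosedImmersion i.left ∧
      Smooth Γ.hom ∧ (AlgGrp.IsNormalHom a ∧ AlgGrp.IsNormalHom b → AlgGrp.IsNormalHom i) ∧
      (ConnectedSpace A.left → GeometricallyConnected Γ.hom) ∧ (∃ f', f' ≫ i = comm a b) ∧
      ∃ L : Set (List Bool), L.Finite ∧ Set.range i.left ⊆ ⋃ l ∈ L, Set.range (word (comm a b) l).left := by
  haveI : Smooth (A ⊗ B).hom := CommWords.smooth_tensor A B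
  haveI : GeometricallyReduced (A ⊗ B).hom := Groth.Agent.AV.geometricallyReduced_of_smooth _
  obtain ⟨Γ, instΓ, i, hi, hic, ⟨f', hf'⟩, hred, hmin, -⟩ := Groth.L15.GenSub.exists_generated (comm a b)
  haveI := hi
  haveI := hic
  obtain ⟨L, hLfin, hLcl, hLall⟩ := exists_comm_words' a b
    (hcase.imp id fun h => ⟨‹_›, h.1, ‹_›, h.2, ‹_›, ‹_›⟩)
  have hr := range_generated (comm a b) Γ i ⟨f', hf'⟩ hmin L hLcl hLall
  haveI : LocallyOfFiniteType Γ.hom := by rw [← Over.w i]; infer_instance
  haveI : LocallyOfFinitePresentation Γ.hom := LocallyOfFinitePresentation.iff_locallyOfFiniteType.2 inferInstance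
  haveI : Flat Γ.hom := Groth.L22.GeomConn.flat_toSpecField _
  haveI := hred
  refine ⟨Γ, instΓ, i, hi, hic, Groth.Agent.S7795.result Γ, fun h => ?_, fun hc => ?_, ⟨f', hf'⟩, L, hLfin, hr.le⟩
  · haveI := isClosedImmersion_of_isImmersion a
    haveI := isClosedImmersion_of_isImmersion b
    haveI : GeometricallyReduced A.hom := Groth.Agent.AV.geometricallyReduced_of_smooth _
    haveI : GeometricallyReduced B.hom := Groth.Agent.AV.geometricallyReduced_of_smooth _
    exact Groth.Agent.S5364.result k G A B a b h.1 h.2 Γ i ⟨f', hf'⟩ hmin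
  · haveI := hc
    haveI := connectedSpace_of_words a b i f' hf' L hr.le
    exact RatConn.geometricallyConnected_of_section Γ.hom η[Γ].left (Over.w η[Γ])

section Shrink

variable {S : Scheme.{u}} [IsIntegral S] {U : S.Opens} (ηU : Spec S.functionField ⟶ (U : Scheme.{u}))
  (hη : ηU ≫ U.ι = S.fromSpecStalk (genericPoint S))

include hη in
/-- Geometric connectedness spreads from the generic point. -/
theorem exists_connected_nhd {HU : Over (U : Scheme.{u})} [LocallyOfFiniteType HU.hom] [QuasiCompact HU.hom]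
    {Z : Over (Spec S.functionField)} (φ : Z.left ⟶ HU.left) (hpb : IsPullback φ Z.hom HU.hom ηU)
    (hZ : GeometricallyConnected Z.hom) :
    ∃ W : (U : Scheme.{u}).Opens, (∀ z, ηU z ∈ W) ∧ GeometricallyConnected (HU.hom ∣_ W) := by
  haveI := hZ
  obtain ⟨z₀⟩ : Nonempty (Spec S.functionField) := inferInstanceAs (Nonempty (PrimeSpectrum S.functionField))
  haveI : Nonempty (U : Scheme.{u}) := ⟨ηU z₀⟩
  haveI : IrreducibleSpace (U : Scheme.{u}) := inferInstance
  have hmem : genericPoint S ∈ U := apply_eq ηU hη z₀ ▸ (ηU z₀).2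
  let p : (U : Scheme.{u}) := ⟨genericPoint S, hmem⟩
  have hpg : p = genericPoint (U : Scheme.{u}) :=
    Subtype.ext (genericPoint_eq_of_isOpenImmersion U.ι).symm
  let e : Spec S.functionField ≅ Spec ((U : Scheme.{u}).presheaf.stalk p) :=
    Scheme.Spec.mapIso (U.stalkIso p).op
  have he : e.inv ≫ ηU = (U : Scheme.{u}).fromSpecStalk p := by
    rw [← cancel_mono U.ι, Category.assoc, hη, show e.inv = Spec.map (U.stalkIso p).inv from rfl,
      Scheme.Opens.stalkIso_inv]
    exact Scheme.SpecMap_stalkMap_fromSpecStalk U.ι (x := p)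
  obtain ⟨w, hw⟩ : ∃ w, w ≫ ηU = (U : Scheme.{u}).fromSpecResidueField p :=
    ⟨Spec.map ((U : Scheme.{u}).residue p) ≫ e.inv, by rw [Category.assoc, he]; rfl⟩
  have hgc : GeometricallyConnected (HU.hom.fiberToSpecResidueField p) := by
    have sq : IsPullback (pullback.fst HU.hom ((U : Scheme.{u}).fromSpecResidueField p))
        (HU.hom.fiberToSpecResidueField p) HU.hom (w ≫ ηU) := hw.symm ▸ IsPullback.of_hasPullback _ _
    exact MorphismProperty.of_isPullback (IsPullback.of_right' sq hpb) inferInstance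
  have key : ∀ q, q = p → GeometricallyConnected (HU.hom.fiberToSpecResidueField q) := by
    rintro q rfl
    exact hgc
  obtain ⟨V, hV, hVc⟩ := Groth.Agent.S0420.result HU.hom (key _ hpg.symm)
  refine ⟨V, fun z => ?_, hVc⟩
  have : ηU z = p := Subtype.ext (apply_eq ηU hη z)
  exact this.symm ▸ hpg.symm ▸
    ((genericPoint_spec (U : Scheme.{u})).mem_open_set_iff V.isOpen).2 (by simpa using hV)

include hη in
/-- Smoothness spreads from the generic point. -/
theorem exists_smooth_nhd {HU : Over (U : Scheme.{u})} [LocallyOfFinitePresentation HU.hom] [QuasiCompact HU.hom]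
    [QuasiSeparated HU.hom] {Z : Over (Spec S.functionField)} (φ : Z.left ⟶ HU.left)
    (hpb : IsPullback φ Z.hom HU.hom ηU) (hZ : Smooth Z.hom) :
    ∃ W : (U : Scheme.{u}).Opens, (∀ z, ηU z ∈ W) ∧ ∀ (V : Scheme.{u}) (v : V ⟶ (U : Scheme.{u})),
      Set.range v ⊆ W → Smooth (pullback.snd HU.hom v) := by
  obtain ⟨W₃, hW₃, hsm₃⟩ := exists_nhd ηU hη Groth.L19.Limit.descends_smooth HU.hom (𝟙 (U : Scheme.{u}))
    ⟨⟨inferInstance, inferInstance⟩, inferInstance⟩ (by
      have h := (pb_iff_of_isPullback hpb).1 hZ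
      have := pb_comp (pullback.snd (𝟙 (U : Scheme.{u})) ηU) h
      rwa [← pullback.condition, Category.comp_id] at this)
  refine ⟨W₃, hW₃, fun V v hv => ?_⟩
  have h := pb_comp (IsOpenImmersion.lift ((𝟙 (U : Scheme.{u})) ⁻¹ᵁ W₃).ι v
    (by rw [Scheme.Opens.range_ι]; exact hv)) hsm₃
  rw [IsOpenImmersion.lift_fac] at h
  exact (pb_iff_of_isPullback (IsPullback.of_hasPullback HU.hom v)).2 h

end Shrink

variable (S : Scheme.{u}) [IsIntegral S] (G A B : Over S) [GrpObj G] [GrpObj A] [GrpObj B]
  [LocallyOfFinitePresentation G.hom] [QuasiCompact G.hom] [QuasiSeparated G.hom]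
  [LocallyOfFinitePresentation A.hom] [QuasiCompact A.hom] [QuasiSeparated A.hom]
  [LocallyOfFinitePresentation B.hom] [QuasiCompact B.hom] [QuasiSeparated B.hom]

theorem isLocallyConstructible_words {X : Over S} [LocallyOfFinitePresentation X.hom] [QuasiCompact X.hom]
    (f : X ⟶ G) (L : Set (List Bool)) (hL : L.Finite) :
    IsLocallyConstructible (⋃ l ∈ L, Set.range (word f l).left) := by
  have hWfp : ∀ l, LocallyOfFinitePresentation (W X l).hom ∧ QuasiCompact (W X l).hom := fun l => by
    induction l with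
    | nil => exact ⟨inferInstanceAs (LocallyOfFinitePresentation (𝟙 S)), inferInstanceAs (QuasiCompact (𝟙 S))⟩
    | cons e l ih =>
      haveI := ih.1
      haveI := ih.2
      exact ⟨inferInstanceAs (LocallyOfFinitePresentation (pullback.fst X.hom (W X l).hom ≫ X.hom)),
        inferInstanceAs (QuasiCompact (pullback.fst X.hom (W X l).hom ≫ X.hom))⟩
  have hcons : ∀ l, IsLocallyConstructible (Set.range (word f l).left) := fun l => by
    haveI := (hWfp l).1
    haveI := (hWfp l).2
    haveI : LocallyOfFinitePresentation (word f l).left := by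
      haveI : LocallyOfFinitePresentation ((word f l).left ≫ G.hom) := by rw [Over.w]; infer_instance
      exact Groth.Agent.S12442.result (word f l).left G.hom
    haveI : QuasiCompact (word f l).left := by
      haveI : QuasiCompact ((word f l).left ≫ G.hom) := by rw [Over.w]; infer_instance
      exact QuasiCompact.of_comp _ G.hom
    rw [← Set.image_univ]
    exact (word f l).left.isLocallyConstructible_image Topology.IsConstructible.univ.isLocallyConstructible
  induction L, hL using Set.Finite.induction_on with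
  | empty => simp [IsLocallyConstructible.empty]
  | insert _ _ ih =>
    rw [Set.biUnion_insert]
    exact (hcons _).union ih

/-- The commutator subgroup of the generic fibre spreads out. -/
theorem exists_comm_spread (a : A ⟶ G) [IsMonHom a] [IsImmersion a.left] (b : B ⟶ G) [IsMonHom b]
    [IsImmersion b.left]
    (hsmA : Smooth (Red.bc (S.fromSpecResidueField (genericPoint S)) A).hom)
    (hsmB : Smooth (Red.bc (S.fromSpecResidueField (genericPoint S)) B).hom)
    (hcase : ConnectedSpace (Red.bc (S.fromSpecResidueField (genericPoint S)) A).left ∨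
      (AlgGrp.IsNormalHom a ∧ AlgGrp.IsNormalHom b)) :
    ∃ U : S.Opens, genericPoint S ∈ U ∧
      ∃ (D : Over (U : Scheme.{u})) (_ : GrpObj D) (d : D ⟶ Red.bc U.ι G), IsMonHom d ∧ IsClosedImmersion d.left ∧
        LocallyOfFinitePresentation D.hom ∧ QuasiCompact D.hom ∧ QuasiSeparated D.hom ∧ Smooth D.hom ∧
        (ConnectedSpace (Red.bc (S.fromSpecResidueField (genericPoint S)) A).left → GeometricallyConnected D.hom) ∧
        (AlgGrp.IsNormalHom a ∧ AlgGrp.IsNormalHom b → AlgGrp.IsNormalHom d) ∧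
        (∃ c, c ≫ d = comm ((Over.pullback U.ι).map a) ((Over.pullback U.ι).map b)) ∧
        ∃ L : Set (List Bool), L.Finite ∧
          Set.range d.left ⊆ pullback.fst G.hom U.ι ⁻¹' ⋃ l ∈ L, Set.range (word (comm a b) l).left := by
  let σ := S.fromSpecStalk (genericPoint S)
  let F := Over.pullback σ
  let K : Type u := S.functionField
  haveI : LocallyOfFiniteType (Red.bc σ G).hom := inferInstanceAs (LocallyOfFiniteType (pullback.snd G.hom σ))
  haveI : LocallyOfFiniteType (Red.bc σ A).hom := inferInstanceAs (LocallyOfFiniteType (pullback.snd A.hom σ))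
  haveI : LocallyOfFiniteType (Red.bc σ B).hom := inferInstanceAs (LocallyOfFiniteType (pullback.snd B.hom σ))
  haveI : QuasiCompact (Red.bc σ A).hom := inferInstanceAs (QuasiCompact (pullback.snd A.hom σ))
  haveI : QuasiCompact (Red.bc σ B).hom := inferInstanceAs (QuasiCompact (pullback.snd B.hom σ))
  haveI : Smooth (Red.bc σ A).hom := bc_stalk_generic @Smooth A hsmA
  haveI : Smooth (Red.bc σ B).hom := bc_stalk_generic @Smooth B hsmB
  haveI : IsMonHom (F.map a) := Groth.L25.SpreadSub.isMonHom_map σ a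
  haveI : IsMonHom (F.map b) := Groth.L25.SpreadSub.isMonHom_map σ b
  haveI : IsImmersion (F.map a).left := MorphismProperty.of_isPullback (Groth.L25.SpreadSub.isPullback_map σ a) ‹_›
  haveI : IsImmersion (F.map b).left := MorphismProperty.of_isPullback (Groth.L25.SpreadSub.isPullback_map σ b) ‹_›
  obtain ⟨Γ, instΓ, i, hi, hic, hΓs, hΓn, hΓc, ⟨f', hf'⟩, L, hLfin, hr⟩ :=
    exists_comm_field (k := K) (F.map a) (F.map b)
      (hcase.imp (connectedSpace_stalk_generic A) fun h => ⟨isNormalHom_bc σ a h.1, isNormalHom_bc σ b h.2⟩)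
  haveI := hi
  haveI := hic
  obtain ⟨U, ηU, HU, instH, j, φ, hη, hj, hjc, hHfp, hpb, hφ⟩ := Groth.L25.SpreadSub.exists_spread_fp S G Γ i
  haveI := hj
  haveI := hjc
  haveI := hHfp
  let GU := Red.bc U.ι G
  haveI : LocallyOfFinitePresentation GU.hom := inferInstanceAs (LocallyOfFinitePresentation (pullback.snd G.hom U.ι))
  haveI : QuasiCompact GU.hom := inferInstanceAs (QuasiCompact (pullback.snd G.hom U.ι))
  haveI : QuasiSeparated GU.hom := inferInstanceAs (QuasiSeparated (pullback.snd G.hom U.ι))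
  haveI : QuasiCompact HU.hom := by rw [← Over.w j]; infer_instance
  haveI : QuasiSeparated HU.hom := by rw [← Over.w j]; infer_instance
  let e : Γ ≅ Red.bc ηU HU := Over.isoMk hpb.isoPullback hpb.isoPullback_hom_snd
  have he : e.hom ≫ (Over.pullback ηU).map j ≫ (cmp hη G).hom = i := by
    apply Over.OverMorphism.ext
    apply pullback.hom_ext
    · simp only [Over.comp_left, Category.assoc]
      erw [cmp_fst hη G, reassoc_of% (Groth.L25.SpreadSub.map_fst ηU j)]
      erw [reassoc_of% hpb.isoPullback_hom_fst]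
      exact hφ
    · exact (Over.w (e.hom ≫ (Over.pullback ηU).map j ≫ (cmp hη G).hom)).trans (Over.w i).symm
  haveI : IsMonHom (cmp hη G).hom := isMonHom_cmp hη G
  haveI : IsMonHom (cmp hη G).symm.hom := isMonHom_cmp_inv hη G
  -- factorisation of commutators
  let AB := Red.bc U.ι (A ⊗ B)
  haveI : LocallyOfFinitePresentation (A ⊗ B).hom :=
    inferInstanceAs (LocallyOfFinitePresentation (pullback.fst A.hom B.hom ≫ A.hom))
  haveI : QuasiCompact (A ⊗ B).hom := inferInstanceAs (QuasiCompact (pullback.fst A.hom B.hom ≫ A.hom))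
  haveI : QuasiSeparated (A ⊗ B).hom := inferInstanceAs (QuasiSeparated (pullback.fst A.hom B.hom ≫ A.hom))
  haveI : LocallyOfFinitePresentation AB.hom := inferInstanceAs (LocallyOfFinitePresentation (pullback.snd (A ⊗ B).hom U.ι))
  haveI : QuasiCompact AB.hom := inferInstanceAs (QuasiCompact (pullback.snd (A ⊗ B).hom U.ι))
  haveI : QuasiSeparated AB.hom := inferInstanceAs (QuasiSeparated (pullback.snd (A ⊗ B).hom U.ι))
  obtain ⟨W₁, hW₁, hfac₁⟩ := exists_factor_nhd ηU hη j ((Over.pullback U.ι).map (comm a b))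
    ⟨(cmp hη (A ⊗ B)).hom ≫ inv (Functor.LaxMonoidal.μ F A B) ≫ f' ≫ e.hom, by
      rw [← cancel_mono (cmp hη G).hom]
      simp only [Category.assoc]
      rw [he, hf', cmp_naturality hη (comm a b)]
      congr 1
      rw [IsIso.inv_comp_eq]
      exact (μ_map_comm F a b).symm⟩
  -- normality
  let conjH : GU ⊗ HU ⟶ GU := fst GU HU * (snd GU HU ≫ j) * (fst GU HU)⁻¹
  haveI : LocallyOfFinitePresentation (GU ⊗ HU).hom :=
    inferInstanceAs (LocallyOfFinitePresentation (pullback.fst GU.hom HU.hom ≫ GU.hom))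
  haveI : QuasiCompact (GU ⊗ HU).hom := inferInstanceAs (QuasiCompact (pullback.fst GU.hom HU.hom ≫ GU.hom))
  haveI : QuasiSeparated (GU ⊗ HU).hom := inferInstanceAs (QuasiSeparated (pullback.fst GU.hom HU.hom ≫ GU.hom))
  obtain ⟨W₂, hW₂, hfac₂⟩ : ∃ W : (U : Scheme.{u}).Opens, (∀ z, ηU z ∈ W) ∧
      (AlgGrp.IsNormalHom a ∧ AlgGrp.IsNormalHom b → ∀ (V : Scheme.{u}) (v : V ⟶ (U : Scheme.{u})),
        Set.range v ⊆ W → ∃ y, y ≫ (Over.pullback v).map j = (Over.pullback v).map conjH) := by
    by_cases hn : AlgGrp.IsNormalHom a ∧ AlgGrp.IsNormalHom b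
    · have hjn : AlgGrp.IsNormalHom ((Over.pullback ηU).map j) :=
        isNormalHom_of_iso i _ e (cmp hη G).symm (by
          rw [Iso.symm_hom, Iso.eq_comp_inv, Category.assoc]; exact he) (hΓn ⟨isNormalHom_bc σ a hn.1, isNormalHom_bc σ b hn.2⟩)
      obtain ⟨n', hn'⟩ := hjn _ ((Over.pullback ηU).map (fst GU HU)) ((Over.pullback ηU).map (snd GU HU))
      obtain ⟨W, hW, hfac⟩ := exists_factor_nhd ηU hη j conjH ⟨n', by
        exact hn'.symm.trans (map_conj (Over.pullback ηU) j).symm⟩
      exact ⟨W, hW, fun _ => hfac⟩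
    · exact ⟨⊤, fun _ => trivial, fun h => absurd h hn⟩
  obtain ⟨W₃, hW₃, hsm₃⟩ := exists_smooth_nhd ηU hη φ hpb hΓs
  -- surjectivity of words
  let YS : Set G.left := ⋃ l ∈ L, Set.range (word (comm a b) l).left
  have hYS : IsLocallyConstructible YS := isLocallyConstructible_words S G (comm a b) L hLfin
  let π : HU.left ⟶ G.left := j.left ≫ pullback.fst G.hom U.ι
  obtain ⟨W₄, hW₄, hcov₄⟩ := exists_cover_nhd ηU hη HU.hom (π ⁻¹' YS) (Groth.L28.Fib.isLocallyConstructible_preimage π hYS) (by
    rintro y ⟨z, hz⟩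
    obtain ⟨x, hx, -⟩ := Scheme.exists_preimage_of_isPullback hpb y z hz.symm
    have h1 : i.left x ∈ ⋃ l ∈ L, Set.range (word (comm (F.map a) (F.map b)) l).left := hr ⟨x, rfl⟩
    rw [← hx]
    show (j.left ≫ pullback.fst G.hom U.ι) (φ x) ∈ YS
    rw [← Scheme.Hom.comp_apply, hφ, Scheme.Hom.comp_apply]
    obtain ⟨l, hl, hxl⟩ := Set.mem_iUnion₂.1 h1
    exact Set.mem_biUnion hl ((range_word_comm_map σ a b l).le hxl))
  obtain ⟨W₅, hW₅, hcon₅⟩ : ∃ W : (U : Scheme.{u}).Opens, (∀ z, ηU z ∈ W) ∧
      (ConnectedSpace (Red.bc (S.fromSpecResidueField (genericPoint S)) A).left →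
        GeometricallyConnected (HU.hom ∣_ W)) := by
    by_cases hc : ConnectedSpace (Red.bc (S.fromSpecResidueField (genericPoint S)) A).left
    · obtain ⟨W, hW, hW'⟩ := exists_connected_nhd ηU hη φ hpb (hΓc (connectedSpace_stalk_generic A hc))
      exact ⟨W, hW, fun _ => hW'⟩
    · exact ⟨⊤, fun _ => trivial, fun h => absurd h hc⟩
  -- shrink
  let W₀ : (U : Scheme.{u}).Opens := W₁ ⊓ W₂ ⊓ W₃ ⊓ W₄ ⊓ W₅
  let U' : S.Opens := U.ι ''ᵁ W₀
  have hle : U' ≤ U := by
    rintro x ⟨w, -, rfl⟩
    exact w.2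
  let v : (U' : Scheme.{u}) ⟶ (U : Scheme.{u}) := S.homOfLE hle
  have hv : v ≫ U.ι = U'.ι := S.homOfLE_ι hle
  have hrange : ∀ x, v x ∈ W₀ := fun x => by
    obtain ⟨w, hw, hwx⟩ := x.2
    have : v x = w := U.ι.isOpenEmbedding.injective
      (((Scheme.Hom.comp_apply v U.ι x).symm.trans (congrArg (fun m : _ ⟶ S => m x) hv)).trans hwx.symm)
    exact this.symm ▸ hw
  have hr₁ : Set.range v ⊆ W₁ := by rintro _ ⟨x, rfl⟩; exact (hrange x).1.1.1.1
  have hr₂ : Set.range v ⊆ W₂ := by rintro _ ⟨x, rfl⟩; exact (hrange x).1.1.1.2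
  have hr₃ : Set.range v ⊆ W₃ := by rintro _ ⟨x, rfl⟩; exact (hrange x).1.1.2
  have hr₄ : Set.range v ⊆ W₄ := by rintro _ ⟨x, rfl⟩; exact (hrange x).1.2
  have hr₅ : Set.range v ⊆ W₅ := by rintro _ ⟨x, rfl⟩; exact (hrange x).2
  haveI : IsMonHom (cmp hv G).hom := isMonHom_cmp hv G
  haveI : IsMonHom ((Over.pullback v).map j) := Groth.L25.SpreadSub.isMonHom_map v j
  let d : Red.bc v HU ⟶ Red.bc U'.ι G := (Over.pullback v).map j ≫ (cmp hv G).hom
  have hgen : genericPoint S ∈ U' := ⟨ηU (IsLocalRing.closedPoint K),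
    ⟨⟨⟨⟨hW₁ _, hW₂ _⟩, hW₃ _⟩, hW₄ _⟩, hW₅ _⟩, apply_eq ηU hη _⟩
  refine ⟨U', hgen, Red.bc v HU, inferInstance, d, inferInstanceAs (IsMonHom (_ ≫ _)), ?_,
    inferInstanceAs (LocallyOfFinitePresentation (pullback.snd HU.hom v)),
    inferInstanceAs (QuasiCompact (pullback.snd HU.hom v)),
    inferInstanceAs (QuasiSeparated (pullback.snd HU.hom v)), ?_, ?_, ?_, ?_, L, hLfin, ?_⟩
  · haveI : IsClosedImmersion ((Over.pullback v).map j).left :=
      MorphismProperty.of_isPullback (Groth.L25.SpreadSub.isPullback_map v j) hjc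
    haveI := Groth.L25.SpreadSub.isIso_left (cmp hv G).hom
    simp only [d, Over.comp_left]
    infer_instance
  · exact hsm₃ _ v hr₃
  · intro hc
    haveI := hcon₅ hc
    exact MorphismProperty.of_isPullback (IsPullback.of_right'
      (show IsPullback (pullback.fst HU.hom v) (pullback.snd HU.hom v) HU.hom
        (IsOpenImmersion.lift W₅.ι v (by rw [Scheme.Opens.range_ι]; exact hr₅) ≫ W₅.ι) by
        rw [IsOpenImmersion.lift_fac]; exact IsPullback.of_hasPullback _ _)
      (isPullback_morphismRestrict HU.hom W₅).flip) inferInstance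
  · intro hn
    obtain ⟨y, hy⟩ := hfac₂ hn _ v hr₂
    have hjv : AlgGrp.IsNormalHom ((Over.pullback v).map j) := fun T g n =>
      ⟨lift g n ≫ Functor.LaxMonoidal.μ (Over.pullback v) GU HU ≫ y, by
        rw [Category.assoc, Category.assoc, hy]
        exact (lift_μ_map_conj (Over.pullback v) j g n).symm⟩
    exact isNormalHom_of_iso _ d (Iso.refl _) (cmp hv G) (Category.id_comp _) hjv
  · obtain ⟨y, hy⟩ := hfac₁ _ v hr₁
    refine ⟨Functor.LaxMonoidal.μ (Over.pullback U'.ι) A B ≫ (cmp hv (A ⊗ B)).inv ≫ y, ?_⟩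
    simp only [d, Category.assoc]
    rw [reassoc_of% hy, cmp_naturality hv (comm a b), Iso.inv_hom_id_assoc]
    exact μ_map_comm (Over.pullback U'.ι) a b
  · rintro _ ⟨z, rfl⟩
    show pullback.fst G.hom U'.ι (d.left z) ∈ YS
    have e1 : d.left ≫ pullback.fst G.hom U'.ι = pullback.fst HU.hom v ≫ π := by
      simp only [d, π, Over.comp_left, Category.assoc]
      erw [cmp_fst hv G, reassoc_of% (Groth.L25.SpreadSub.map_fst v j)]
    refine Eq.mpr (congrArg (· ∈ YS) (congrArg (fun m : _ ⟶ G.left => m z) e1)) ?_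
    exact hcov₄ _ (hr₄ ⟨pullback.snd HU.hom v z,
      congrArg (fun m : _ ⟶ (U : Scheme.{u}) => m z) pullback.condition.symm⟩)

end Groth.L25.GenWords
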