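import Groth.Agent.L25.GenWords.SpreadComm

/-!
# Fibres of a spread out commutator subgroup
-/

set_option autoImplicit false
set_option maxSynthPendingDepth 3
set_option linter.style.haveILetI false
set_option linter.unusedSectionVars false
set_option backward.isDefEq.respectTransparency.types false
set_option backward.isDefEq.respectTransparency false
set_option synthInstance.maxHeartbeats 200000

universe u

open CategoryTheory CategoryTheory.Limits MonoidalCategory CartesianMonoidalCategory MonObj AlgebraicGeometry

noncomputable section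

namespace Groth.L25.GenWords

/-- A smooth scheme over a field is reduced. -/
theorem isReduced_of_smooth_field {k : Type u} [Field k] {X : Scheme.{u}} (f : X ⟶ Spec (CommRingCat.of k))
    [Smooth f] : IsReduced X := by
  haveI : GeometricallyReduced f := Groth.Agent.AV.geometricallyReduced_of_smooth _
  exact GeometricallyReduced.isReduced_of_flat_of_isLocallyNoetherian f

/-- A subscheme swept out by commutator words lies, on reduced fibres, in every closed subgroup scheme through
which the commutator morphism factors. -/
theorem exists_lift_fibre {S S' T : Scheme.{u}} (u' : S' ⟶ S) (t : T ⟶ S') {G A B : Over S} [GrpObj G]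
    (a : A ⟶ G) (b : B ⟶ G) {D : Over S'} (d : D ⟶ Red.bc u' G) (L : Set (List Bool))
    (hd : Set.range d.left ⊆ pullback.fst G.hom u' ⁻¹' ⋃ l ∈ L, Set.range (word (comm a b) l).left)
    [IsReduced (Red.bc t D).left]
    (Γ' : Over T) [GrpObj Γ'] (i' : Γ' ⟶ Red.bc t (Red.bc u' G)) [IsMonHom i'] [IsClosedImmersion i'.left]
    (hc : ∃ c', c' ≫ i' =
      comm ((Over.pullback t).map ((Over.pullback u').map a)) ((Over.pullback t).map ((Over.pullback u').map b))) :
    ∃ j : Red.bc t D ⟶ Γ', j ≫ i' = (Over.pullback t).map d := by
  obtain ⟨c', hc'⟩ := hc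
  have hsub : Set.range ((Over.pullback t).map d).left ⊆ Set.range i'.left := by
    rintro _ ⟨z, rfl⟩
    have h1 := hd ⟨pullback.fst D.hom t z, rfl⟩
    rw [show d.left (pullback.fst D.hom t z) = pullback.fst (Red.bc u' G).hom t (((Over.pullback t).map d).left z) from
      (congrArg (fun m : _ ⟶ (Red.bc u' G).left => m z) (Groth.L25.SpreadSub.map_fst t d)).symm] at h1
    obtain ⟨l, hl, hxl⟩ := Set.mem_iUnion₂.1 h1
    have h3 := (range_word_comm_map t ((Over.pullback u').map a) ((Over.pullback u').map b) l).ge
      (show ((Over.pullback t).map d).left z ∈ pullback.fst (Red.bc u' G).hom t ⁻¹'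
        Set.range (word (comm ((Over.pullback u').map a) ((Over.pullback u').map b)) l).left from
        (range_word_comm_map u' a b l).ge hxl)
    obtain ⟨h, hh⟩ := exists_factor _ i' c' hc' l
    exact range_subset_of_comp' h hh h3
  obtain ⟨m, hm⟩ := Groth.L15.GenSub.exists_lift_of_range i'.left ((Over.pullback t).map d).left hsub
  exact ⟨Over.homMk m (by rw [← Over.w i', ← Category.assoc, hm]; exact Over.w _), Over.OverMorphism.ext hm⟩

/-- A morphism whose fibre over `t` lands in the commutator words factors, on reduced fibres, through every closed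
subgroup scheme through which the commutator morphism factors. -/
theorem exists_lift_of_words {S T : Scheme.{u}} (t : T ⟶ S) {G A B X : Over S} [GrpObj G]
    (a : A ⟶ G) (b : B ⟶ G) (m : X ⟶ G) (L : Set (List Bool))
    (hd : ∀ z, m.left (pullback.fst X.hom t z) ∈ ⋃ l ∈ L, Set.range (word (comm a b) l).left)
    [IsReduced (Red.bc t X).left] (Γ' : Over T) [GrpObj Γ'] (i' : Γ' ⟶ Red.bc t G) [IsMonHom i']
    [IsClosedImmersion i'.left] (hc : ∃ c', c' ≫ i' = comm ((Over.pullback t).map a) ((Over.pullback t).map b)) :
    ∃ j : Red.bc t X ⟶ Γ', j ≫ i' = (Over.pullback t).map m := by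
  obtain ⟨c', hc'⟩ := hc
  have hsub : Set.range ((Over.pullback t).map m).left ⊆ Set.range i'.left := by
    rintro _ ⟨z, rfl⟩
    have h1 := hd z
    rw [show m.left (pullback.fst X.hom t z) = pullback.fst G.hom t (((Over.pullback t).map m).left z) from
      (congrArg (fun f : _ ⟶ G.left => f z) (Groth.L25.SpreadSub.map_fst t m)).symm] at h1
    obtain ⟨l, hl, hxl⟩ := Set.mem_iUnion₂.1 h1
    obtain ⟨h, hh⟩ := exists_factor _ i' c' hc' l
    exact range_subset_of_comp' h hh ((range_word_comm_map t a b l).ge hxl)
  obtain ⟨n, hn⟩ := Groth.L15.GenSub.exists_lift_of_range i'.left ((Over.pullback t).map m).left hsub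
  exact ⟨Over.homMk n (by rw [← Over.w i', ← Category.assoc, hn]; exact Over.w _), Over.OverMorphism.ext hn⟩

/-- Fibres of a geometrically connected morphism are connected. -/
theorem connectedSpace_fiber {X Y : Scheme.{u}} (f : X ⟶ Y) [GeometricallyConnected f] (y : Y) :
    ConnectedSpace (f.fiber y) := by
  haveI : GeometricallyConnected (f.fiberToSpecResidueField y) := MorphismProperty.pullback_snd _ _ ‹_›
  exact GeometricallyConnected.connectedSpace_of_subsingleton (f.fiberToSpecResidueField y)

end Groth.L25.GenWords
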