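import Groth.Agent.L25.GenWords.CommField
import Groth.Agent.L25.SpreadSub
import Groth.Agent.L25.RatConn
import Groth.Agent.L15.GenSub.Subgroup
import Groth.Prelude.Def_Red
import Mathlib.AlgebraicGeometry.Morphisms.Integral

/-!
# Finitely many words sweep out the commutator subgroup scheme over any field
-/

set_option autoImplicit false
set_option maxSynthPendingDepth 3
set_option linter.style.haveILetI false
set_option linter.unusedSectionVars false
set_option backward.isDefEq.respectTransparency.types false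
set_option backward.isDefEq.respectTransparency false

universe u

open CategoryTheory CategoryTheory.Limits MonoidalCategory CartesianMonoidalCategory MonObj AlgebraicGeometry
open Topology

noncomputable section

namespace Groth.L25.GenWords

/-- base change preserves normality -/
theorem isNormalHom_bc {S S' : Scheme.{u}} (t : S' ⟶ S) {G L : Over S} [GrpObj G] [GrpObj L] (l : L ⟶ G)
    (h : AlgGrp.IsNormalHom l) :
    AlgGrp.IsNormalHom ((Over.pullback t).map l : Red.bc t L ⟶ Red.bc t G) := by
  intro T g n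
  let F := Over.pullback t
  let adj := Over.mapPullbackAdj t
  obtain ⟨n', hn'⟩ := h ((Over.map t).obj T) ((adj.homEquiv _ _).symm g) ((adj.homEquiv _ _).symm n)
  refine ⟨adj.homEquiv _ _ n', ?_⟩
  have e := congrArg (fun m => adj.unit.app T ≫ F.map m) hn'
  simp only [Functor.map_mul, Functor.map_comp, Functor.map_inv', MonObj.comp_mul, GrpObj.comp_inv] at e
  have hu : ∀ {Y : Over S} (x : T ⟶ F.obj Y), adj.unit.app T ≫ F.map ((adj.homEquiv T Y).symm x) = x := fun {Y} x => by
    exact (adj.homEquiv_unit (X := T) (Y := Y) (f := (adj.homEquiv T Y).symm x)).symm.trans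
      ((adj.homEquiv T Y).apply_symm_apply x)
  rw [hu, ← Category.assoc, hu, ← Category.assoc] at e
  rw [Adjunction.homEquiv_unit]
  exact e

variable {k : Type u} [Field k] {G : Over (Spec (CommRingCat.of k))} [GrpObj G]

/-- The range of the generated subgroup, when finitely many words sweep out a closed set containing all words. -/
theorem range_generated {X : Over (Spec (CommRingCat.of k))} [GeometricallyReduced X.hom] (f : X ⟶ G)
    (Γ : Over (Spec (CommRingCat.of k))) [GrpObj Γ] (i : Γ ⟶ G) [IsMonHom i] [IsClosedImmersion i.left]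
    (hf : ∃ f' : X ⟶ Γ, f' ≫ i = f)
    (hmin : ∀ (Γ' : Over (Spec (CommRingCat.of k))) (_ : GrpObj Γ') (i' : Γ' ⟶ G), IsMonHom i' →
      IsClosedImmersion i'.left → (∃ f'' : X ⟶ Γ', f'' ≫ i' = f) → ∃ j : Γ ⟶ Γ', j ≫ i' = i)
    (L : Set (List Bool)) (hL : IsClosed (⋃ l ∈ L, Set.range (word f l).left))
    (hall : ∀ l, Set.range (word f l).left ⊆ ⋃ l' ∈ L, Set.range (word f l').left) :
    Set.range i.left = ⋃ l ∈ L, Set.range (word f l).left := by
  refine subset_antisymm ?_ (Set.iUnion₂_subset fun l _ => ?_)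
  · obtain ⟨Γ₀, inst₀, i₀, hi₀, hc₀, hf₀, -, -, h₀, hh₀, hdom₀⟩ := Groth.L15.GenSub.exists_generated f
    obtain ⟨j, rfl⟩ := hmin Γ₀ inst₀ i₀ hi₀ hc₀ hf₀
    have hcmp : ∀ l : List Bool, ∃ r : Groth.L15.GenSub.WObj X l ⟶ W X l, r ≫ word f l = Groth.L15.GenSub.wMap f l := by
      intro l
      induction l with
      | nil => exact ⟨𝟙 _, Category.id_comp _⟩
      | cons b l ih =>
        obtain ⟨r, hr⟩ := ih
        suffices hs : ∃ q : X ⊗ Groth.L15.GenSub.WObj X l ⟶ X ⊗ W X l,
            q ≫ ((fst X (W X l) ≫ (if b then f else f⁻¹)) * (snd X (W X l) ≫ word f l)) =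
              (fst X (Groth.L15.GenSub.WObj X l) ≫ (if b then f else f⁻¹)) *
                (snd X (Groth.L15.GenSub.WObj X l) ≫ Groth.L15.GenSub.wMap f l) from hs
        exact ⟨X ◁ r, by rw [MonObj.comp_mul, whiskerLeft_fst_assoc, whiskerLeft_snd_assoc, hr]⟩
    rintro _ ⟨x, rfl⟩
    suffices h : Set.univ ⊆ i₀.left ⁻¹' (⋃ l ∈ L, Set.range (word f l).left) from h (Set.mem_univ (j.left x))
    rw [← (Groth.L15.GenSub.dom_dense hdom₀).closure_eq]
    refine closure_minimal (Set.iUnion_subset fun l => ?_) (hL.preimage i₀.left.continuous)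
    rintro _ ⟨z, rfl⟩
    show (h₀ l ≫ i₀).left z ∈ ⋃ l' ∈ L, Set.range (word f l').left
    obtain ⟨r, hr⟩ := hcmp l.down
    rw [hh₀, ← hr]
    exact hall l.down ⟨r.left z, rfl⟩
  · obtain ⟨f', hf'⟩ := hf
    obtain ⟨h, hh⟩ := exists_factor f i f' hf' l
    rw [← hh, Over.comp_left, Scheme.Hom.comp_base, TopCat.coe_comp]
    exact Set.range_comp_subset_range _ _

theorem range_subset_of_comp {T U V : Over (Spec (CommRingCat.of k))} {m : T ⟶ V} (r : T ⟶ U) {m' : U ⟶ V}
    (h : r ≫ m' = m) : Set.range m.left ⊆ Set.range m'.left := by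
  subst h
  rw [Over.comp_left, Scheme.Hom.comp_base, TopCat.coe_comp]
  exact Set.range_comp_subset_range _ _

theorem range_map {A B : Scheme.{u}} (t : B ⟶ A) {X Y : Over A} (x : X ⟶ Y) :
    Set.range ((Over.pullback t).map x).left = pullback.fst Y.hom t ⁻¹' Set.range x.left := by
  refine subset_antisymm ?_ fun z ⟨p, hp⟩ => ?_
  · rintro _ ⟨z, rfl⟩
    exact ⟨pullback.fst X.hom t z,
      (congrArg (fun m : _ ⟶ Y.left => m z) (Groth.L25.SpreadSub.map_fst t x)).symm⟩
  · obtain ⟨w, -, hw⟩ := Scheme.exists_preimage_of_isPullback (Groth.L25.SpreadSub.isPullback_map t x) p z hp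
    exact ⟨w, hw⟩

variable {A B : Over (Spec (CommRingCat.of k))} [GrpObj A] [GrpObj B]

/-- Finitely many commutator words sweep out a closed set containing all commutator words. -/
theorem exists_comm_words' [LocallyOfFiniteType G.hom] [LocallyOfFiniteType A.hom] [LocallyOfFiniteType B.hom]
    (a : A ⟶ G) [IsMonHom a] (b : B ⟶ G) [IsMonHom b]
    (hcase : ConnectedSpace A.left ∨ (IsImmersion a.left ∧ AlgGrp.IsNormalHom a ∧ IsImmersion b.left ∧
      AlgGrp.IsNormalHom b ∧ QuasiCompact A.hom ∧ QuasiCompact B.hom)) :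
    ∃ L : Set (List Bool), L.Finite ∧ IsClosed (⋃ l ∈ L, Set.range (word (comm a b) l).left) ∧
      ∀ l, Set.range (word (comm a b) l).left ⊆ ⋃ l' ∈ L, Set.range (word (comm a b) l').left := by
  let Ω := AlgebraicClosure k
  let t : Spec (CommRingCat.of Ω) ⟶ Spec (CommRingCat.of k) := Spec.map (CommRingCat.ofHom (algebraMap k Ω))
  let F := Over.pullback t
  haveI : LocallyOfFiniteType (Red.bc t G).hom := MorphismProperty.pullback_snd _ _ inferInstance
  haveI : LocallyOfFiniteType (Red.bc t A).hom := MorphismProperty.pullback_snd _ _ inferInstance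
  haveI : LocallyOfFiniteType (Red.bc t B).hom := MorphismProperty.pullback_snd _ _ inferInstance
  let aΩ : Red.bc t A ⟶ Red.bc t G := F.map a
  let bΩ : Red.bc t B ⟶ Red.bc t G := F.map b
  haveI : IsMonHom aΩ := Groth.L25.SpreadSub.isMonHom_map t a
  haveI : IsMonHom bΩ := Groth.L25.SpreadSub.isMonHom_map t b
  have hmono : ∀ {X Y : Over (Spec (CommRingCat.of k))} (g : X ⟶ Y), IsImmersion g.left → Mono (F.map g) := by
    intro X Y g hg
    haveI : IsImmersion (F.map g).left :=
      MorphismProperty.of_isPullback (Groth.L25.SpreadSub.isPullback_map t g) hg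
    exact Over.mono_of_mono_left _
  have hcase' : ConnectedSpace (Red.bc t A).left ∨ (Mono aΩ ∧ AlgGrp.IsNormalHom aΩ ∧ Mono bΩ ∧
      AlgGrp.IsNormalHom bΩ ∧ QuasiCompact (Red.bc t A).hom ∧ QuasiCompact (Red.bc t B).hom) := by
    rcases hcase with hA | ⟨h1, h2, h3, h4, h5, h6⟩
    · haveI : GeometricallyConnected A.hom := RatConn.geometricallyConnected_of_section A.hom η[A].left (Over.w η[A])
      haveI : GeometricallyConnected (Red.bc t A).hom := MorphismProperty.pullback_snd A.hom t inferInstance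
      exact .inl (GeometricallyConnected.connectedSpace_of_subsingleton (Red.bc t A).hom)
    · exact .inr ⟨hmono a h1, isNormalHom_bc t a h2, hmono b h3,
        isNormalHom_bc t b h4, MorphismProperty.pullback_snd A.hom t h5,
        MorphismProperty.pullback_snd B.hom t h6⟩
  obtain ⟨L, hfin, hcl, hall, -⟩ := exists_comm_words aΩ bΩ hcase'
  let c := comm a b
  have hrange : ∀ l, Set.range (word (comm aΩ bΩ) l).left = pullback.fst G.hom t ⁻¹' Set.range (word c l).left := by
    intro l
    let ν := Functor.LaxMonoidal.μ F A B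
    have hμ : ν ≫ F.map c = comm aΩ bΩ := μ_map_comm F a b
    rw [← range_map t (word c l)]
    refine subset_antisymm ?_ ?_
    · obtain ⟨r, hr⟩ := exists_precomp ν (F.map c) l
      obtain ⟨r', hr'⟩ := exists_toMap F c l
      rw [hμ] at hr
      exact range_subset_of_comp (r ≫ r') (by rw [Category.assoc]; exact (congrArg (r ≫ ·) hr').trans hr)
    · obtain ⟨r, hr⟩ := exists_ofMap F c l
      obtain ⟨r', hr'⟩ := exists_precomp (inv ν) (comm aΩ bΩ) l
      rw [show inv ν ≫ comm aΩ bΩ = F.map c by rw [← hμ, IsIso.inv_hom_id_assoc]] at hr'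
      exact range_subset_of_comp (r ≫ r') (by rw [Category.assoc]; exact (congrArg (r ≫ ·) hr').trans hr)
  let π := pullback.fst G.hom t
  haveI : IsIntegralHom t := IsIntegralHom.SpecMap_iff.mpr
    (algebraMap_isIntegral_iff.2 (inferInstanceAs (Algebra.IsIntegral k Ω)))
  haveI : IsIntegralHom π := MorphismProperty.pullback_fst _ _ inferInstance
  haveI : Surjective t := ⟨fun z => ⟨IsLocalRing.closedPoint Ω, Subsingleton.elim (α := PrimeSpectrum k) _ _⟩⟩
  haveI : Surjective π := MorphismProperty.pullback_fst _ _ inferInstance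
  have heq : (⋃ l ∈ L, Set.range (word (comm aΩ bΩ) l).left) = π ⁻¹' (⋃ l ∈ L, Set.range (word c l).left) := by
    simp only [hrange, Set.preimage_iUnion]
    rfl
  refine ⟨L, hfin, ?_, fun l x hx => ?_⟩
  · have h := π.isClosedMap _ (heq ▸ hcl)
    rwa [Set.image_preimage_eq _ π.surjective] at h
  · obtain ⟨z, rfl⟩ := π.surjective x
    have h1 : z ∈ Set.range (word (comm aΩ bΩ) l).left := (hrange l).symm ▸ hx
    exact (heq ▸ hall l h1 : z ∈ π ⁻¹' (⋃ l' ∈ L, Set.range (word c l').left))

end Groth.L25.GenWords
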