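import Groth.Agent.L25.GenWords.Words
import Groth.Agent.L25.Solv.Points
import Groth.Agent.L25.GeomIrred
import Groth.Agent.L26.AV.GroupSep
import Groth.Agent.L08.GrpDim
import Groth.Agent.L03.Euler.Dim
import Groth.Agent.L06.NRQuot
import Mathlib.AlgebraicGeometry.Geometrically.Irreducible

/-!
# Subgroups generated by irreducible families of rational points are closed
-/

set_option autoImplicit false
set_option linter.style.haveILetI false
set_option linter.unusedSectionVars false
set_option backward.isDefEq.respectTransparency.types false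

universe u

open CategoryTheory CategoryTheory.Limits MonoidalCategory CartesianMonoidalCategory MonObj AlgebraicGeometry
open TopologicalSpace Topology

noncomputable section

namespace Groth.L25.GenWords

open Groth.L25.Solv (pt)

variable {k : Type u} [Field k] [IsAlgClosed k] {G X : Over (Spec (CommRingCat.of k))} [GrpObj G]
  [LocallyOfFiniteType G.hom]

/-- rational points -/
abbrev pts (Y : Over (Spec (CommRingCat.of k))) : Type u := 𝟙_ (Over (Spec (CommRingCat.of k))) ⟶ Y

/-- Rational points in the image lift. -/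
theorem exists_lift_pt {P : Over (Spec (CommRingCat.of k))} [LocallyOfFiniteType P.hom] (φ : P ⟶ G)
    (g : pts G) (h : pt G g ∈ Set.range φ.left) : ∃ p : pts P, p ≫ φ = g := by
  obtain ⟨z, hz⟩ := h
  exact WordPoints.exists_point_over φ g (IsLocalRing.closedPoint k) z hz

theorem pt_mem_range {P : Over (Spec (CommRingCat.of k))} (φ : P ⟶ G) (p : pts P) :
    pt G (p ≫ φ) ∈ Set.range φ.left := ⟨p.left (IsLocalRing.closedPoint k), rfl⟩

/-- Products of irreducible schemes over an algebraically closed field are irreducible. -/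
theorem irreducibleSpace_tensor (P Q : Over (Spec (CommRingCat.of k))) [IrreducibleSpace P.left]
    [IrreducibleSpace Q.left] : IrreducibleSpace (P ⊗ Q).left := by
  haveI : GeometricallyIrreducible P.hom := GeomIrred.geometricallyIrreducible_of_isAlgClosed P.hom
  let q := pullback.snd P.hom Q.hom
  haveI : GeometricallyIrreducible q := MorphismProperty.pullback_snd _ _ inferInstance
  haveI : UniversallyOpen q := MorphismProperty.pullback_snd _ _ inferInstance
  have h := q.isIrreducible_preimage q.isOpenMap (IrreducibleSpace.isIrreducible_univ Q.left)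
  rw [Set.preimage_univ] at h
  exact (irreducibleSpace_def _).2 h

/-- An irreducible family of words through the unit, with rational points in a given subgroup. -/
structure Cand (f : X ⟶ G) (H : Subgroup (pts G)) where
  P : Over (Spec (CommRingCat.of k))
  lft : LocallyOfFiniteType P.hom
  qc : QuasiCompact P.hom
  irr : IrreducibleSpace P.left
  φ : P ⟶ G
  fac : ∃ (l : List Bool) (r : P ⟶ W X l), r ≫ word f l = φ
  e : pts P
  he : e ≫ φ = 1
  mem : ∀ p : pts P, p ≫ φ ∈ H

variable {f : X ⟶ G} {H : Subgroup (pts G)}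

/-- The closed set swept out by a family. -/
def Cand.Z (c : Cand f H) : Set G.left := closure (Set.range c.φ.left)

theorem Cand.isClosed (c : Cand f H) : IsClosed c.Z := isClosed_closure

theorem Cand.isIrreducible (c : Cand f H) : IsIrreducible c.Z := by
  haveI := c.irr
  refine IsIrreducible.closure ?_
  rw [← Set.image_univ]
  exact (IrreducibleSpace.isIrreducible_univ _).image _ c.φ.left.continuous.continuousOn

/-- The trivial family. -/
def Cand.triv (f : X ⟶ G) (H : Subgroup (pts G)) : Cand f H where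
  P := 𝟙_ _
  lft := inferInstanceAs (LocallyOfFiniteType (𝟙 (Spec (CommRingCat.of k))))
  qc := inferInstanceAs (QuasiCompact (𝟙 (Spec (CommRingCat.of k))))
  irr := inferInstanceAs (IrreducibleSpace (PrimeSpectrum k))
  φ := 1
  fac := ⟨[], 𝟙 _, Category.id_comp _⟩
  e := 𝟙 _
  he := Category.id_comp _
  mem p := by rw [MonObj.comp_one]; exact H.one_mem

/-- The family of quotients of two families. -/
def Cand.mulInv (c d : Cand f H) : Cand f H where
  P := c.P ⊗ d.P
  lft := by
    haveI := c.lft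
    haveI := d.lft
    exact inferInstanceAs (LocallyOfFiniteType (pullback.fst c.P.hom d.P.hom ≫ c.P.hom))
  qc := by
    haveI := c.qc
    haveI := d.qc
    exact inferInstanceAs (QuasiCompact (pullback.fst c.P.hom d.P.hom ≫ c.P.hom))
  irr := by
    haveI := c.irr
    haveI := d.irr
    haveI := c.lft
    haveI := d.lft
    exact irreducibleSpace_tensor c.P d.P
  φ := (fst _ _ ≫ c.φ) * (snd _ _ ≫ d.φ)⁻¹
  fac := by
    obtain ⟨l, r, hr⟩ := c.fac
    obtain ⟨l', r', hr'⟩ := d.fac
    obtain ⟨m, s, hs⟩ := exists_inv f l'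
    obtain ⟨t, ht⟩ := exists_append f l m
    refine ⟨l ++ m, lift (fst _ _ ≫ r) (snd _ _ ≫ r' ≫ s) ≫ t, ?_⟩
    rw [Category.assoc, ht, MonObj.comp_mul, lift_fst_assoc, lift_snd_assoc, Category.assoc, hr,
      Category.assoc, Category.assoc, hs, GrpObj.comp_inv r', hr', GrpObj.comp_inv]
  e := lift c.e d.e
  he := by rw [MonObj.comp_mul, GrpObj.comp_inv, lift_fst_assoc, lift_snd_assoc, c.he, d.he, inv_one, _root_.one_mul]
  mem p := by
    rw [MonObj.comp_mul, GrpObj.comp_inv, ← Category.assoc, ← Category.assoc]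
    exact H.mul_mem (c.mem _) (H.inv_mem (d.mem _))

theorem Cand.mulInv_apply (c d : Cand f H) (p : pts c.P) (q : pts d.P) :
    lift p q ≫ (c.mulInv d).φ = (p ≫ c.φ) * (q ≫ d.φ)⁻¹ := by
  show lift p q ≫ ((fst _ _ ≫ c.φ) * (snd _ _ ≫ d.φ)⁻¹) = _
  rw [MonObj.comp_mul, GrpObj.comp_inv, lift_fst_assoc, lift_snd_assoc]

theorem Cand.subset_mulInv (c d : Cand f H) : c.Z ⊆ (c.mulInv d).Z := by
  refine closure_mono ?_
  rintro _ ⟨x, rfl⟩
  have e : lift (𝟙 c.P) (toUnit c.P ≫ d.e) ≫ (c.mulInv d).φ = c.φ := by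
    show lift _ _ ≫ ((fst _ _ ≫ c.φ) * (snd _ _ ≫ d.φ)⁻¹) = _
    rw [MonObj.comp_mul, GrpObj.comp_inv, lift_fst_assoc, lift_snd_assoc, Category.id_comp, Category.assoc,
      d.he, MonObj.comp_one, inv_one, _root_.mul_one]
  refine ⟨(lift (𝟙 c.P) (toUnit c.P ≫ d.e)).left x, ?_⟩
  exact congrArg (fun m : c.P ⟶ G => m.left x) e

/-- A largest family. -/
theorem exists_max : ∃ c : Cand f H, ∀ d : Cand f H, (c.mulInv d).Z = c.Z := by
  classical
  obtain ⟨g, -, hg⟩ := Groth.L08.GrpDim.exists_dim G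
  let Q : ℕ → Prop := fun n => ∃ c : Cand f H, (n : WithBot ℕ∞) ≤ topologicalKrullDim c.Z
  have h0 : Q 0 := ⟨Cand.triv f H, Groth.L03.Euler.zero_le_topologicalKrullDim
    ⟨_, subset_closure (pt_mem_range _ (Cand.triv f H).e)⟩⟩
  have hle : ∀ n, Q n → n ≤ g := fun n ⟨c, hc⟩ => by
    have := hc.trans ((topologicalKrullDim_subspace_le G.left c.Z).trans hg.le)
    exact_mod_cast this
  obtain ⟨c, hc⟩ : Q (Nat.findGreatest Q g) := Nat.findGreatest_spec (Nat.zero_le g) h0
  refine ⟨c, fun d => by_contra fun hne => ?_⟩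
  have h1 : Q (Nat.findGreatest Q g + 1) := ⟨c.mulInv d, by
    have h := Groth.L03.Euler.topologicalKrullDim_add_one_le c.isClosed (c.mulInv d).isIrreducible
      (c.subset_mulInv d) (Ne.symm hne)
    refine le_trans ?_ h
    push_cast
    exact add_le_add_left hc 1⟩
  exact Nat.findGreatest_is_greatest (Nat.lt_succ_self _) (hle _ h1) h1

/-- The subgroup generated by irreducible families of words through the unit is closed and swept out by one word. -/
theorem exists_closed_subgroup (f : X ⟶ G) (H : Subgroup (pts G)) :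
    ∃ (D : Set G.left) (M : Subgroup (pts G)) (l : List Bool), IsClosed D ∧ M ≤ H ∧
      (∀ g, g ∈ M ↔ pt G g ∈ D) ∧ D ⊆ Set.range (word f l).left ∧
      ∀ (d : Cand f H) (p : pts d.P), p ≫ d.φ ∈ M := by
  obtain ⟨c, hc⟩ := exists_max (f := f) (H := H)
  haveI : IsLocallyNoetherian G.left := LocallyOfFiniteType.isLocallyNoetherian G.hom
  haveI : JacobsonSpace G.left := LocallyOfFiniteType.jacobsonSpace G.hom
  haveI := c.lft
  haveI := c.qc
  haveI : CompactSpace c.P.left := (HasAffineProperty.iff_of_isAffine (P := @QuasiCompact)).1 c.qc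
  have h1 : pt G 1 ∈ c.Z := c.he ▸ subset_closure (pt_mem_range c.φ c.e)
  -- the set is stable under quotients
  have hcont : ∀ (ψ : G ⟶ G) (s t : Set G.left), (∀ g : pts G, pt G g ∈ s → pt G (g ≫ ψ) ∈ t) →
      IsClosed t → ∀ g : pts G, pt G g ∈ closure (s ∩ closedPoints G.left) → pt G (g ≫ ψ) ∈ t := by
    intro ψ s t hst ht g hg
    refine closure_minimal (fun x hx => ?_) (ht.preimage ψ.left.continuous) hg
    obtain ⟨a, rfl⟩ := Solv.exists_pt G hx.2
    exact hst a hx.1
  have hlift : ∀ g : pts G, pt G g ∈ Set.range c.φ.left → ∃ p, p ≫ c.φ = g := fun g hg => exists_lift_pt c.φ g hg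
  have hden : ∀ g : pts G, pt G g ∈ c.Z → pt G g ∈ closure (Set.range c.φ.left ∩ closedPoints G.left) := by
    intro g hg
    refine closure_minimal ?_ isClosed_closure hg
    rintro _ ⟨x, rfl⟩
    haveI : JacobsonSpace c.P.left := LocallyOfFiniteType.jacobsonSpace c.P.hom
    refine closure_mono ?_ (image_closure_subset_closure_image c.φ.left.continuous
      ⟨x, (closure_closedPoints (X := c.P.left)).symm ▸ Set.mem_univ x, rfl⟩)
    rintro _ ⟨y, hy, rfl⟩
    refine ⟨⟨y, rfl⟩, ?_⟩
    obtain ⟨⟨p, hp⟩, hpy⟩ := (pointEquivClosedPoint c.P.hom).surjective ⟨y, hy⟩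
    have hpy' : pt G ((Over.homMk p hp : pts c.P) ≫ c.φ) = c.φ.left y := by
      exact congrArg c.φ.left (congrArg Subtype.val hpy)
    exact hpy' ▸ Solv.isClosed_pt G _
  have hclosed : ∀ (d : Cand f H) (a : pts G) (q : pts d.P), pt G a ∈ c.Z → pt G (a * (q ≫ d.φ)⁻¹) ∈ c.Z := by
    intro d a q ha
    have := hcont (𝟙 G * (toUnit G ≫ (q ≫ d.φ)⁻¹)) (Set.range c.φ.left) c.Z (fun b hb => ?_) c.isClosed a (hden a ha)
    · simpa [MonObj.comp_mul, Solv.const_comp] using this
    · obtain ⟨p, rfl⟩ := hlift b hb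
      rw [← hc d]
      refine subset_closure ?_
      have e : (p ≫ c.φ) ≫ (𝟙 G * (toUnit G ≫ (q ≫ d.φ)⁻¹)) = lift p q ≫ (c.mulInv d).φ := by
        rw [Cand.mulInv_apply, MonObj.comp_mul, Category.comp_id, Solv.const_comp]
      rw [e]
      exact pt_mem_range _ _
  have hstable : ∀ a b : pts G, pt G a ∈ c.Z → pt G b ∈ c.Z → pt G (a * b⁻¹) ∈ c.Z := by
    intro a b ha hb
    have := hcont ((toUnit G ≫ a) * (𝟙 G)⁻¹) (Set.range c.φ.left) c.Z (fun b hb => ?_) c.isClosed b (hden b hb)
    · simpa [MonObj.comp_mul, GrpObj.comp_inv, Solv.const_comp] using this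
    · obtain ⟨p, rfl⟩ := hlift b hb
      have e : (p ≫ c.φ) ≫ ((toUnit G ≫ a) * (𝟙 G)⁻¹) = a * (p ≫ c.φ)⁻¹ := by
        rw [MonObj.comp_mul, GrpObj.comp_inv, Category.comp_id, Solv.const_comp]
      rw [e]
      exact hclosed c a p ha
  let M : Subgroup (pts G) := Subgroup.ofDiv {g | pt G g ∈ c.Z} ⟨1, h1⟩ fun a ha b hb => hstable a b ha hb
  -- an open part of the image
  haveI : QuasiCompact c.φ.left := quasiCompact_of_compactSpace _
  haveI : LocallyOfFinitePresentation c.φ.left := by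
    haveI : LocallyOfFiniteType (c.φ.left ≫ G.hom) := by rw [Over.w]; infer_instance
    haveI : LocallyOfFiniteType c.φ.left := locallyOfFiniteType_of_comp c.φ.left G.hom
    exact LocallyOfFinitePresentation.iff_locallyOfFiniteType.2 inferInstance
  have hcons : IsLocallyConstructible (Set.range c.φ.left) := by
    rw [← Set.image_univ]
    exact c.φ.left.isLocallyConstructible_image Topology.IsConstructible.univ.isLocallyConstructible
  obtain ⟨U, hU, hne, hsub⟩ := Groth.L06.NRQuot.isLocallyConstructible_open_dense hcons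
    (subset_closure : _ ⊆ c.Z) (le_of_eq rfl) c.isClosed ⟨_, h1⟩
  have hU' : ∀ a : pts G, a ∈ M → ∃ b : pts G, pt G b ∈ U ∩ c.Z ∧ pt G (b⁻¹ * a) ∈ U ∩ c.Z := by
    intro a ha
    let ψ : G ⟶ G := (𝟙 G)⁻¹ * (toUnit G ≫ a)
    have hψ : ∀ b : pts G, b ≫ ψ = b⁻¹ * a := fun b => by
      simp [ψ, MonObj.comp_mul, GrpObj.comp_inv, Solv.const_comp]
    obtain ⟨x, ⟨hxU, hxZ⟩, hxc⟩ := nonempty_inter_closedPoints hne (hU.isLocallyClosed.inter c.isClosed.isLocallyClosed)
    obtain ⟨b₀, rfl⟩ := Solv.exists_pt G hxc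
    -- a point of the translated open
    have hb1 : pt G ((a * b₀⁻¹) ≫ ψ) ∈ U ∩ c.Z := by
      rw [hψ, mul_inv_rev, inv_inv, _root_.mul_assoc, inv_mul_cancel, _root_.mul_one]
      exact ⟨hxU, hxZ⟩
    obtain ⟨y, ⟨hyZ, hyU, hyV⟩⟩ := c.isIrreducible.2 U (ψ.left ⁻¹' U) hU (hU.preimage ψ.left.continuous)
      ⟨_, hxZ, hxU⟩ ⟨pt G (a * b₀⁻¹), M.mul_mem ha (M.inv_mem hxZ), hb1.1⟩
    obtain ⟨z, ⟨⟨hzZ, hzU⟩, hzV⟩, hzc⟩ := nonempty_inter_closedPoints (Z := (c.Z ∩ U) ∩ ψ.left ⁻¹' U)
      ⟨y, ⟨hyZ, hyU⟩, hyV⟩ ((c.isClosed.isLocallyClosed.inter hU.isLocallyClosed).inter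
        (hU.preimage ψ.left.continuous).isLocallyClosed)
    obtain ⟨b, rfl⟩ := Solv.exists_pt G hzc
    refine ⟨b, ⟨hzU, hzZ⟩, ?_, M.mul_mem (M.inv_mem hzZ) ha⟩
    rw [← hψ]
    exact hzV
  have hlift' : ∀ a ∈ M, ∃ p q : pts c.P, a = (p ≫ c.φ) * (q ≫ c.φ) := by
    intro a ha
    obtain ⟨b, hb, hb'⟩ := hU' a ha
    obtain ⟨p, hp⟩ := hlift b (hsub hb)
    obtain ⟨q, hq⟩ := hlift _ (hsub hb')
    exact ⟨p, q, by rw [hp, hq, mul_inv_cancel_left]⟩
  obtain ⟨l, r, hr⟩ := c.fac
  obtain ⟨s, hs⟩ := exists_append f l l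
  refine ⟨c.Z, M, l ++ l, c.isClosed, fun a ha => ?_, fun _ => Iff.rfl, ?_, fun d p => ?_⟩
  · obtain ⟨p, q, rfl⟩ := hlift' a ha
    exact H.mul_mem (c.mem p) (c.mem q)
  · let ψ : c.P ⊗ c.P ⟶ G := (fst _ _ ≫ c.φ) * (snd _ _ ≫ c.φ)
    haveI : LocallyOfFiniteType (c.P ⊗ c.P).hom :=
      inferInstanceAs (LocallyOfFiniteType (pullback.fst c.P.hom c.P.hom ≫ c.P.hom))
    have hψ : Set.range ψ.left ⊆ Set.range (word f (l ++ l)).left := by
      have e : lift (fst _ _ ≫ r) (snd _ _ ≫ r) ≫ s ≫ word f (l ++ l) = ψ := by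
        rw [hs, MonObj.comp_mul, lift_fst_assoc, lift_snd_assoc, Category.assoc, Category.assoc, hr]
      rw [← e, ← Category.assoc, Over.comp_left, Scheme.Hom.comp_base, TopCat.coe_comp]
      exact Set.range_comp_subset_range _ _
    refine subset_trans ?_ hψ
    haveI : QuasiCompact (c.P ⊗ c.P).hom :=
      inferInstanceAs (QuasiCompact (pullback.fst c.P.hom c.P.hom ≫ c.P.hom))
    haveI : CompactSpace (c.P ⊗ c.P).left := (HasAffineProperty.iff_of_isAffine (P := @QuasiCompact)).1 (‹QuasiCompact (c.P ⊗ c.P).hom›)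
    haveI : QuasiCompact ψ.left := quasiCompact_of_compactSpace _
    haveI : LocallyOfFinitePresentation ψ.left := by
      haveI : LocallyOfFiniteType (ψ.left ≫ G.hom) := by rw [Over.w]; infer_instance
      haveI : LocallyOfFiniteType ψ.left := locallyOfFiniteType_of_comp ψ.left G.hom
      exact LocallyOfFinitePresentation.iff_locallyOfFiniteType.2 inferInstance
    intro x hx
    by_contra hxr
    have hE : IsLocallyConstructible (c.Z \ Set.range ψ.left) := by
      refine (Groth.L06.NRQuot.isLocallyConstructible_of_isClosed c.isClosed).inter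
        (Groth.L06.NRQuot.isLocallyConstructible_compl ?_)
      rw [← Set.image_univ]
      exact ψ.left.isLocallyConstructible_image Topology.IsConstructible.univ.isLocallyConstructible
    obtain ⟨z, ⟨hzZ, hzr⟩, hzc⟩ := Groth.L06.NRQuot.exists_closedPoint hE ⟨x, hx, hxr⟩
    obtain ⟨a, ha⟩ := Solv.exists_pt G (mem_closedPoints_iff.2 hzc)
    obtain ⟨p, q, rfl⟩ := hlift' a (show pt G a ∈ c.Z from ha.symm ▸ hzZ)
    refine hzr ⟨(lift p q).left (IsLocalRing.closedPoint k), ?_⟩
    rw [← ha]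
    show ψ.left ((lift p q).left _) = pt G ((p ≫ c.φ) * (q ≫ c.φ))
    rw [← Scheme.Hom.comp_apply, ← Over.comp_left, MonObj.comp_mul, lift_fst_assoc, lift_snd_assoc]
    rfl
  · have := hclosed d 1 p h1
    rw [_root_.one_mul] at this
    exact inv_inv (p ≫ d.φ) ▸ M.inv_mem this

end Groth.L25.GenWords
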