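import Groth.Agent.L25.GenWords.Generated

/-!
# Subgroups generated by connected families through the unit
-/

set_option autoImplicit false
set_option maxSynthPendingDepth 3
set_option linter.style.haveILetI false
set_option linter.unusedSectionVars false
set_option backward.isDefEq.respectTransparency.types false

universe u

open CategoryTheory CategoryTheory.Limits MonoidalCategory CartesianMonoidalCategory MonObj AlgebraicGeometry
open TopologicalSpace Topology

noncomputable section

namespace Groth.L25.GenWords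

open Groth.L25.Solv (pt)

section AlgClosed

variable {k : Type u} [Field k] [IsAlgClosed k] {G X : Over (Spec (CommRingCat.of k))} [GrpObj G]
  [LocallyOfFiniteType G.hom] [LocallyOfFiniteType X.hom] [QuasiCompact X.hom] [ConnectedSpace X.left]

/-- Finitely many words in a connected family through the unit sweep out a closed set containing all words. -/
theorem exists_conn_words (f : X ⟶ G) (he : pt G 1 ∈ Set.range f.left) :
    ∃ L : Set (List Bool), L.Finite ∧ IsClosed (⋃ l ∈ L, Set.range (word f l).left) ∧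
      ∀ l, Set.range (word f l).left ⊆ ⋃ l' ∈ L, Set.range (word f l').left := by
  let ptX : pts X → X.left := fun p => p.left (IsLocalRing.closedPoint k)
  have hex : ∀ x ∈ closedPoints X.left, ∃ p, ptX p = x := fun x hx => by
    obtain ⟨⟨z, hz⟩, hzy⟩ := (pointEquivClosedPoint X.hom).surjective ⟨x, hx⟩
    exact ⟨Over.homMk z hz, congrArg Subtype.val hzy⟩
  let H : Subgroup (pts G) := Subgroup.closure (Set.range fun x : pts X => x ≫ f)
  obtain ⟨D, M, l₀, hD, hMH, hMD, hDl, hc⟩ := exists_closed_subgroup f H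
  haveI : JacobsonSpace X.left := LocallyOfFiniteType.jacobsonSpace X.hom
  haveI : IsLocallyNoetherian X.left := LocallyOfFiniteType.isLocallyNoetherian X.hom
  haveI : CompactSpace X.left := (HasAffineProperty.iff_of_isAffine (P := @QuasiCompact)).1 (‹QuasiCompact X.hom›)
  haveI : IsNoetherian X.left := {}
  have hquot : ∀ Z : Set X.left, IsIrreducible Z → IsClosed Z → ∀ p q : pts X, ptX p ∈ Z → ptX q ∈ Z →
      (p ≫ f) * (q ≫ f)⁻¹ ∈ M := by
    intro Z hZ hZc p q hp hq
    let I := Scheme.IdealSheafData.vanishingIdeal (X := X.left) ⟨Z, hZc⟩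
    have hrange : Set.range I.subschemeι = Z := by
      rw [Scheme.IdealSheafData.range_subschemeι]
      simp [I]
    let P : Over (Spec (CommRingCat.of k)) := Over.mk (I.subschemeι ≫ X.hom)
    let ιP : P ⟶ X := Over.homMk I.subschemeι rfl
    haveI : LocallyOfFiniteType P.hom := inferInstanceAs (LocallyOfFiniteType (I.subschemeι ≫ X.hom))
    haveI : IrreducibleSpace P.left := by
      haveI : Nonempty P.left := by
        obtain ⟨z, hz⟩ := hZ.nonempty
        obtain ⟨w, -⟩ := hrange.ge hz
        exact ⟨w⟩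
      haveI : PreirreducibleSpace P.left := ⟨by
        rintro u v hu hv ⟨x, -, hx⟩ ⟨y, -, hy⟩
        obtain ⟨u', hu', rfl⟩ := I.subschemeι.isEmbedding.isInducing.isOpen_iff.1 hu
        obtain ⟨v', hv', rfl⟩ := I.subschemeι.isEmbedding.isInducing.isOpen_iff.1 hv
        obtain ⟨z, hz, hzu, hzv⟩ := hZ.2 u' v' hu' hv' ⟨_, hrange.le ⟨x, rfl⟩, hx⟩ ⟨_, hrange.le ⟨y, rfl⟩, hy⟩
        obtain ⟨w, rfl⟩ := hrange.ge hz
        exact ⟨w, trivial, hzu, hzv⟩⟩
      exact ⟨inferInstance⟩
    obtain ⟨p', hp'⟩ := (hrange.ge hp).elim fun w hw => WordPoints.exists_point_over ιP p _ w hw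
    obtain ⟨q', hq'⟩ := (hrange.ge hq).elim fun w hw => WordPoints.exists_point_over ιP q _ w hw
    let c : Cand f H :=
      { P := P
        lft := inferInstance
        qc := inferInstanceAs (QuasiCompact (I.subschemeι ≫ X.hom))
        irr := inferInstance
        φ := (ιP ≫ f) * (toUnit P ≫ (q ≫ f)⁻¹)
        fac := by
          obtain ⟨r, hr⟩ := exists_single f true
          obtain ⟨r', hr'⟩ := exists_single f false
          obtain ⟨s, hs⟩ := exists_append f [true] [false]
          refine ⟨[true] ++ [false], lift (ιP ≫ r) (toUnit P ≫ q ≫ r') ≫ s, ?_⟩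
          rw [Category.assoc, hs, MonObj.comp_mul, lift_fst_assoc, lift_snd_assoc, Category.assoc, hr,
            Category.assoc, Category.assoc, hr']
          simp [GrpObj.comp_inv]
        e := q'
        he := by
          rw [MonObj.comp_mul, reassoc_of% hq', ← Category.assoc q', toUnit_unique (q' ≫ toUnit P) (𝟙 _),
            Category.id_comp, mul_inv_cancel]
        mem := fun r => by
          rw [MonObj.comp_mul, ← Category.assoc r, ← Category.assoc r (toUnit P),
            toUnit_unique (r ≫ toUnit P) (𝟙 _), Category.id_comp]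
          exact H.mul_mem (Subgroup.subset_closure ⟨_, rfl⟩) (H.inv_mem (Subgroup.subset_closure ⟨_, rfl⟩)) }
    have h := hc c p'
    rw [show p' ≫ c.φ = (p ≫ f) * (q ≫ f)⁻¹ by
      show p' ≫ ((ιP ≫ f) * (toUnit P ≫ (q ≫ f)⁻¹)) = _
      rw [MonObj.comp_mul, reassoc_of% hp', ← Category.assoc p', toUnit_unique (p' ≫ toUnit P) (𝟙 _),
        Category.id_comp]] at h
    exact h
  -- the preimage of the closed subgroup is clopen
  let Y : Set X.left := f.left ⁻¹' D
  have hY : IsClosed Y := hD.preimage f.left.continuous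
  have hptY : ∀ p : pts X, ptX p ∈ Y ↔ p ≫ f ∈ M := fun p => by
    rw [hMD]
    rfl
  have hcomp : ∀ Z ∈ irreducibleComponents X.left, (Z ∩ Y).Nonempty → Z ⊆ Y := by
    intro Z hZ hne
    have hZc := isClosed_of_mem_irreducibleComponents Z hZ
    obtain ⟨z, ⟨hzZ, hzY⟩, hzc⟩ := nonempty_inter_closedPoints hne (hZc.inter hY).isLocallyClosed
    obtain ⟨q, rfl⟩ := hex _ hzc
    have hsub : Z ∩ closedPoints X.left ⊆ Y := by
      rintro w ⟨hwZ, hwc⟩
      obtain ⟨p, rfl⟩ := hex _ hwc
      refine (hptY p).2 ?_
      have := M.mul_mem (hquot Z hZ.1 hZc p q hwZ hzZ) ((hptY q).1 hzY)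
      rwa [inv_mul_cancel_right] at this
    calc Z = closure (Z ∩ closedPoints X.left) := ((JacobsonSpace.closure_inter_closedPoints hZc)).symm
      _ ⊆ Y := closure_minimal hsub hY
  have hYo : IsOpen Y := by
    have hfin : (irreducibleComponents X.left).Finite := NoetherianSpace.finite_irreducibleComponents
    have e : Yᶜ = ⋃ Z ∈ {Z ∈ irreducibleComponents X.left | ¬ (Z ∩ Y).Nonempty}, Z := by
      ext x
      simp only [Set.mem_compl_iff, Set.mem_iUnion, Set.mem_ofPred_eq, exists_prop]
      constructor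
      · exact fun hx => ⟨irreducibleComponent x, ⟨irreducibleComponent_mem_irreducibleComponents x,
          fun hne => hx (hcomp _ (irreducibleComponent_mem_irreducibleComponents x) hne mem_irreducibleComponent)⟩,
          mem_irreducibleComponent⟩
      · rintro ⟨Z, ⟨-, hne⟩, hxZ⟩ hx
        exact hne ⟨x, hxZ, hx⟩
    rw [← isClosed_compl_iff, e]
    exact (hfin.subset fun Z hZ => hZ.1).isClosed_biUnion fun Z hZ => isClosed_of_mem_irreducibleComponents Z hZ.1
  have hYu : Y = Set.univ := by
    rcases isClopen_iff.1 (⟨hY, hYo⟩ : IsClopen Y) with h | h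
    · obtain ⟨x, hx⟩ := he
      refine absurd (show x ∈ Y from ?_) (h ▸ Set.notMem_empty x)
      show f.left x ∈ D
      rw [hx, ← hMD]
      exact M.one_mem
    · exact h
  obtain ⟨L, h1, h2, h3, -⟩ := exists_finite_words f H rfl D hD l₀ hDl {1} (Set.finite_singleton 1)
    (Set.singleton_subset_iff.2 (one_mem _)) fun g hg => ⟨1, rfl, by
      rw [inv_one, _root_.one_mul, ← hMD]
      exact (Subgroup.closure_le M).2 (by rintro _ ⟨p, rfl⟩; exact (hptY p).1 (hYu ▸ Set.mem_univ _)) hg⟩
  exact ⟨L, h1, h2, h3⟩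

end AlgClosed

variable {k : Type u} [Field k] {G X : Over (Spec (CommRingCat.of k))} [GrpObj G]
  [LocallyOfFiniteType G.hom] [LocallyOfFiniteType X.hom] [QuasiCompact X.hom] [GeometricallyConnected X.hom]

/-- Finitely many words in a geometrically connected family through the unit sweep out a closed set containing all
words. -/
theorem exists_conn_words' (f : X ⟶ G)
    (he : ∃ x : X.left, f.left x ∈ Set.range (η[G] : 𝟙_ (Over (Spec (CommRingCat.of k))) ⟶ G).left) :
    ∃ L : Set (List Bool), L.Finite ∧ IsClosed (⋃ l ∈ L, Set.range (word f l).left) ∧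
      ∀ l, Set.range (word f l).left ⊆ ⋃ l' ∈ L, Set.range (word f l').left := by
  let Ω := AlgebraicClosure k
  let t : Spec (CommRingCat.of Ω) ⟶ Spec (CommRingCat.of k) := Spec.map (CommRingCat.ofHom (algebraMap k Ω))
  let F := Over.pullback t
  let π := pullback.fst G.hom t
  haveI : LocallyOfFiniteType (Red.bc t G).hom := MorphismProperty.pullback_snd _ _ inferInstance
  haveI : LocallyOfFiniteType (Red.bc t X).hom := MorphismProperty.pullback_snd _ _ inferInstance
  haveI : QuasiCompact (Red.bc t X).hom := MorphismProperty.pullback_snd _ _ inferInstance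
  haveI : GeometricallyConnected (Red.bc t X).hom := MorphismProperty.pullback_snd X.hom t inferInstance
  haveI : ConnectedSpace (Red.bc t X).left :=
    GeometricallyConnected.connectedSpace_of_subsingleton (Red.bc t X).hom
  let fΩ : Red.bc t X ⟶ Red.bc t G := F.map f
  -- the unit is in the image
  have he' : pt (Red.bc t G) 1 ∈ Set.range fΩ.left := by
    obtain ⟨x, z, hz⟩ := he
    rw [range_map t f]
    refine ⟨x, ?_⟩
    have e1 : Set.range (1 : 𝟙_ _ ⟶ Red.bc t G).left ⊆ π ⁻¹' Set.range (1 : 𝟙_ _ ⟶ G).left := by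
      rw [← range_map t (1 : 𝟙_ _ ⟶ G), Functor.map_one]
      refine range_subset_of_comp (Functor.LaxMonoidal.ε F) ?_
      rw [MonObj.comp_one]
    obtain ⟨z', hz'⟩ := e1 ⟨IsLocalRing.closedPoint Ω, rfl⟩
    have hz'' : (η[G] : 𝟙_ (Over (Spec (CommRingCat.of k))) ⟶ G).left z' = π (pt (Red.bc t G) 1) := by
      refine Eq.trans ?_ hz'
      rw [Hom.one_def, toUnit_unique (toUnit (𝟙_ (Over (Spec (CommRingCat.of k))))) (𝟙 _), Category.id_comp]
    exact hz.symm.trans ((congrArg _ (WordPoints.subsingleton_unit z z')).trans hz'')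
  obtain ⟨L, hfin, hcl, hall⟩ := exists_conn_words fΩ he'
  have hrange : ∀ l, Set.range (word fΩ l).left = π ⁻¹' Set.range (word f l).left := by
    intro l
    rw [← range_map t (word f l)]
    refine subset_antisymm ?_ ?_
    · obtain ⟨r, hr⟩ := exists_toMap F f l
      exact range_subset_of_comp r hr
    · obtain ⟨r, hr⟩ := exists_ofMap F f l
      exact range_subset_of_comp r hr
  haveI : IsIntegralHom t := IsIntegralHom.SpecMap_iff.mpr
    (algebraMap_isIntegral_iff.2 (inferInstanceAs (Algebra.IsIntegral k Ω)))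
  haveI : IsIntegralHom π := MorphismProperty.pullback_fst _ _ inferInstance
  haveI : Surjective t := ⟨fun z => ⟨IsLocalRing.closedPoint Ω, Subsingleton.elim (α := PrimeSpectrum k) _ _⟩⟩
  haveI : Surjective π := MorphismProperty.pullback_fst _ _ inferInstance
  have heq : (⋃ l ∈ L, Set.range (word fΩ l).left) = π ⁻¹' (⋃ l ∈ L, Set.range (word f l).left) := by
    simp only [hrange, Set.preimage_iUnion]
  refine ⟨L, hfin, ?_, fun l x hx => ?_⟩
  · have h := π.isClosedMap _ (heq ▸ hcl)
    rwa [Set.image_preimage_eq _ π.surjective] at h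
  · obtain ⟨z, rfl⟩ := π.surjective x
    have h1 : z ∈ Set.range (word fΩ l).left := (hrange l).symm ▸ hx
    exact (heq ▸ hall l h1 : z ∈ π ⁻¹' (⋃ l' ∈ L, Set.range (word f l').left))

end Groth.L25.GenWords
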