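import Mathlib.Topology.Constructible
import Mathlib.Topology.Sober

/-!
# Constructible sets at a generic point

Copy of two lemmas of `Groth.Agent.L20.GenGeomRed`, kept apart to keep import closures small.
-/

set_option autoImplicit false

open Topology

namespace Groth.L25.GenWords.ConsGeneric


/-- A constructible set is either a neighbourhood of a generic point or its complement is. -/
theorem mem_nhds_of_isConstructible {T : Type*} [TopologicalSpace T] {η : T}
    (hη : ∀ O : Set T, IsOpen O → O.Nonempty → η ∈ O) {s : Set T} (hs : IsConstructible s) :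
    (η ∈ s → s ∈ 𝓝 η) ∧ (η ∉ s → sᶜ ∈ 𝓝 η) := by
  induction hs using IsConstructible.empty_union_induction with
  | open_retrocompact U hUo _ =>
    refine ⟨fun h => hUo.mem_nhds h, fun h => ?_⟩
    rcases U.eq_empty_or_nonempty with rfl | hne
    · simp
    · exact absurd (hη U hUo hne) h
  | union s _ t _ hs ht =>
    refine ⟨fun h => ?_, fun h => ?_⟩
    · rcases h with h | h
      · exact Filter.mem_of_superset (hs.1 h) Set.subset_union_left
      · exact Filter.mem_of_superset (ht.1 h) Set.subset_union_right
    · rw [Set.compl_union]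
      exact Filter.inter_mem (hs.2 fun h' => h (Or.inl h')) (ht.2 fun h' => h (Or.inr h'))
  | compl s _ hs =>
    refine ⟨fun h => hs.2 h, fun h => ?_⟩
    rw [compl_compl]
    exact hs.1 (not_not.1 h)

/-- A locally constructible set containing the generic point is a neighbourhood of it. -/
theorem mem_nhds_of_isLocallyConstructible {T : Type*} [TopologicalSpace T] [QuasiSober T]
    [IrreducibleSpace T] {s : Set T} (hs : IsLocallyConstructible s) (h : genericPoint T ∈ s) :
    s ∈ 𝓝 (genericPoint T) := by
  obtain ⟨W, hW, hWo, hc⟩ := hs (genericPoint T)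
  have hmem := mem_of_mem_nhds hW
  have h2 := (mem_nhds_of_isConstructible (η := (⟨genericPoint T, hmem⟩ : W)) (fun O hO hne => by
    obtain ⟨O', hO', rfl⟩ := hO
    obtain ⟨x, hx⟩ := hne
    exact ((genericPoint_spec T).specializes trivial).mem_open hO' hx) hc).1 h
  rw [mem_nhds_iff] at h2
  obtain ⟨O, hOs, hO, hOη⟩ := h2
  exact Filter.mem_of_superset ((hWo.isOpenMap_subtype_val O hO).mem_nhds ⟨_, hOη, rfl⟩)
    (Set.image_subset_iff.2 hOs)

end Groth.L25.GenWords.ConsGeneric
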