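import Groth.Agent.L25.GenWords.Fibre
import Groth.Agent.L25.LimGrp

/-!
# Derived series of a group scheme over an open of an integral base
-/

set_option autoImplicit false
set_option maxSynthPendingDepth 3
set_option linter.style.haveILetI false
set_option linter.unusedSectionVars false
set_option backward.isDefEq.respectTransparency.types false
set_option backward.isDefEq.respectTransparency false
set_option synthInstance.maxHeartbeats 200000
set_option maxHeartbeats 1000000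

universe u

open CategoryTheory CategoryTheory.Limits MonoidalCategory CartesianMonoidalCategory MonObj AlgebraicGeometry
open Groth.L25.LimHom

noncomputable section

namespace Groth.L25.GenWords

theorem comm_transport {C : Type*} [Category C] [CartesianMonoidalCategory C] {G G' A B A' B' : C} [GrpObj G]
    [GrpObj G'] (a : A ⟶ G) (b : B ⟶ G) (φ : G ⟶ G') [IsMonHom φ] (r : A' ⟶ A) (s : B' ⟶ B) :
    comm (r ≫ a ≫ φ) (s ≫ b ≫ φ) = (r ⊗ₘ s) ≫ comm a b ≫ φ := by
  simp only [comm, MonObj.comp_mul, MonObj.mul_comp, GrpObj.comp_inv, GrpObj.inv_comp, Category.assoc,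
    tensorHom_fst_assoc, tensorHom_snd_assoc]

/-- The compatibility of the comparison isomorphisms of iterated base changes. -/
theorem cmp_cocycle {A B C D : Scheme.{u}} {c : D ⟶ C} {b : C ⟶ B} {a : B ⟶ A} {cb : D ⟶ B} {ba : C ⟶ A}
    {cba : D ⟶ A} (h1 : c ≫ b = cb) (h2 : cb ≫ a = cba) (h3 : b ≫ a = ba) (h4 : c ≫ ba = cba) (X : Over A) :
    (cmp h1 (Red.bc a X)).hom ≫ (cmp h2 X).hom = (Over.pullback c).map (cmp h3 X).hom ≫ (cmp h4 X).hom := by
  refine bc_ext ?_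
  simp only [Over.comp_left, Category.assoc]
  rw [cmp_fst h2 X, cmp_fst h4 X]
  rw [← Category.assoc, cmp_fst h1 (Red.bc a X), Category.assoc]
  erw [reassoc_of% (Groth.L25.SpreadSub.map_fst c (cmp h3 X).hom)]
  rw [cmp_fst h3 X]

section Chain

variable {T : Scheme.{u}} {Ga Ga' : Over T} [GrpObj Ga] [GrpObj Ga']

/-- `e'` is the commutator subgroup scheme of `e` with itself. -/
def Step {K L : Over T} (e : K ⟶ Ga) (e' : L ⟶ Ga) : Prop :=
  (∃ c : K ⊗ K ⟶ L, c ≫ e' = comm e e) ∧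
    ∀ (Γ' : Over T) (_ : GrpObj Γ') (i' : Γ' ⟶ Ga), IsMonHom i' → IsClosedImmersion i'.left →
      (∃ c' : K ⊗ K ⟶ Γ', c' ≫ i' = comm e e) → ∃ j : L ⟶ Γ', j ≫ i' = e'

theorem Step.transport {K L K' L' : Over T} {e : K ⟶ Ga} {e' : L ⟶ Ga} (φ : Ga ≅ Ga') [IsMonHom φ.hom]
    [IsMonHom φ.inv] (r : K' ≅ K) (r' : L' ≅ L) (h : Step e e') :
    Step (r.hom ≫ e ≫ φ.hom) (r'.hom ≫ e' ≫ φ.hom) := by
  obtain ⟨⟨c, hc⟩, hmin⟩ := h
  refine ⟨⟨(r.hom ⊗ₘ r.hom) ≫ c ≫ r'.inv, ?_⟩, fun Γ' _ i' hi hic ⟨c', hc'⟩ => ?_⟩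
  · rw [comm_transport, Category.assoc, Category.assoc, Iso.inv_hom_id_assoc, reassoc_of% hc]
  · haveI := hi
    haveI := hic
    haveI := Groth.L25.SpreadSub.isIso_left φ.inv
    have e1 : ((r.inv ⊗ₘ r.inv) ≫ c') ≫ i' ≫ φ.inv = comm e e := by
      rw [Category.assoc, reassoc_of% hc', comm_transport]
      simp only [Category.assoc, Iso.hom_inv_id, Category.comp_id]
      rw [← Category.assoc, tensorHom_comp_tensorHom, Iso.inv_hom_id, id_tensorHom_id, Category.id_comp]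
    obtain ⟨j, hj⟩ := hmin Γ' _ (i' ≫ φ.inv) inferInstance
      (by rw [Over.comp_left]; infer_instance) ⟨_, e1⟩
    refine ⟨r'.hom ≫ j, ?_⟩
    rw [← hj]
    simp only [Category.assoc, Iso.inv_hom_id, Category.comp_id]

/-- `l` is the `n`-th term of the derived series starting at `e`. -/
def Chain : ℕ → ∀ {K L : Over T}, (K ⟶ Ga) → (L ⟶ Ga) → Prop
  | 0, K, L, e, l => ∃ r : K ≅ L, r.hom ≫ l = e
  | n + 1, _, _, e, l => ∃ (K₁ : Over T) (_ : GrpObj K₁) (e₁ : K₁ ⟶ Ga),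
      IsMonHom e₁ ∧ IsClosedImmersion e₁.left ∧ Step e e₁ ∧ Chain n e₁ l

theorem Chain.transport (φ : Ga ≅ Ga') [IsMonHom φ.hom] [IsMonHom φ.inv] :
    ∀ (n : ℕ) {K L K' L' : Over T} {e : K ⟶ Ga} {l : L ⟶ Ga} (r : K' ≅ K) (r' : L' ≅ L),
      Chain n e l → Chain n (r.hom ≫ e ≫ φ.hom) (r'.hom ≫ l ≫ φ.hom)
  | 0, _, _, _, _, e, l, r, r', ⟨q, hq⟩ => ⟨r ≪≫ q ≪≫ r'.symm, by
      simp only [Iso.trans_hom, Iso.symm_hom, Category.assoc, Iso.inv_hom_id_assoc]
      rw [← hq, Category.assoc]⟩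
  | n + 1, _, _, _, _, e, l, r, r', ⟨K₁, _, e₁, h1, h2, hs, hc⟩ => by
      haveI := h1
      haveI := h2
      haveI := Groth.L25.SpreadSub.isIso_left φ.hom
      have hs' := hs.transport φ r (Iso.refl K₁)
      have hc' := Chain.transport φ n (Iso.refl K₁) r' hc
      rw [Iso.refl_hom, Category.id_comp] at hs' hc'
      exact ⟨K₁, inferInstance, e₁ ≫ φ.hom, inferInstance, by rw [Over.comp_left]; infer_instance, hs', hc'⟩

theorem Chain.toFin : ∀ (n : ℕ) {K L : Over T} (_ : GrpObj K) {e : K ⟶ Ga} {l : L ⟶ Ga},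
    IsMonHom e → IsClosedImmersion e.left → Chain n e l →
    ∃ (K' : Fin (n + 1) → Over T) (_ : ∀ p, GrpObj (K' p)) (emb : ∀ p, K' p ⟶ Ga),
      (∀ p, IsMonHom (emb p) ∧ IsClosedImmersion (emb p).left) ∧ (∃ r : K ≅ K' 0, r.hom ≫ emb 0 = e) ∧
      (∀ p : Fin n, Step (emb p.castSucc) (emb p.succ)) ∧
      ∃ r : L ≅ K' (Fin.last n), r.hom ≫ emb (Fin.last n) = l
  | 0, K, L, hK, e, l, he, hec, ⟨q, hq⟩ =>
      ⟨fun _ => K, fun _ => hK, fun _ => e, fun _ => ⟨he, hec⟩, ⟨Iso.refl K, Category.id_comp _⟩,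
        fun p => p.elim0, ⟨q.symm, by rw [← hq, Iso.symm_hom, Iso.inv_hom_id_assoc]⟩⟩
  | n + 1, K, L, hK, e, l, he, hec, ⟨K₁, hK₁, e₁, h1, h2, hs, hc⟩ => by
      obtain ⟨K', hK', emb, hemb, ⟨r0, hr0⟩, hsteps, ⟨r, hr⟩⟩ := Chain.toFin n hK₁ h1 h2 hc
      let K'' : Fin (n + 2) → Over T := fun p => Fin.cases (motive := fun _ => Over T) K K' p
      let hK'' : ∀ p, GrpObj (K'' p) := fun p => Fin.cases (motive := fun p => GrpObj (K'' p)) hK hK' p
      let emb'' : ∀ p, K'' p ⟶ Ga := fun p => Fin.cases (motive := fun p => K'' p ⟶ Ga) e emb p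
      refine ⟨K'', hK'', emb'', Fin.cases ⟨he, hec⟩ hemb,
        ⟨Iso.refl K, Category.id_comp _⟩, Fin.cases ?_ fun p => hsteps p, ⟨r, hr⟩⟩
      haveI : IsMonHom (Iso.refl Ga).hom := inferInstanceAs (IsMonHom (𝟙 Ga))
      haveI : IsMonHom (Iso.refl Ga).inv := inferInstanceAs (IsMonHom (𝟙 Ga))
      have h := hs.transport (Iso.refl Ga) (Iso.refl K) r0.symm
      simp only [Iso.refl_hom, Category.id_comp, Category.comp_id, Iso.symm_hom] at h
      rw [show r0.inv ≫ e₁ = emb 0 by rw [← hr0, Iso.inv_hom_id_assoc]] at h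
      exact h

end Chain

/-- The first step on fibres over fields. -/
theorem step_of_spread {S : Scheme.{u}} {U : S.Opens} {G A : Over S} [GrpObj G] (a : A ⟶ G)
    {D : Over (U : Scheme.{u})} (d : D ⟶ Red.bc U.ι G) (hsm : Smooth D.hom) (L : Set (List Bool))
    (hd : Set.range d.left ⊆ pullback.fst G.hom U.ι ⁻¹' ⋃ l ∈ L, Set.range (word (comm a a) l).left)
    (hc : ∃ c, c ≫ d = comm ((Over.pullback U.ι).map a) ((Over.pullback U.ι).map a))
    {k : Type u} [Field k] (t : Spec (CommRingCat.of k) ⟶ (U : Scheme.{u}))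
    {σ : Spec (CommRingCat.of k) ⟶ S} (hσ : t ≫ U.ι = σ) :
    Step ((Over.pullback σ).map a) ((Over.pullback t).map d ≫ (cmp hσ G).hom) := by
  obtain ⟨c, hc⟩ := hc
  haveI : Smooth (Red.bc t D).hom := MorphismProperty.pullback_snd _ _ hsm
  haveI : IsReduced (Red.bc t D).left := isReduced_of_smooth_field (Red.bc t D).hom
  have h0 : Step ((Over.pullback t).map ((Over.pullback U.ι).map a)) ((Over.pullback t).map d) := by
    refine ⟨⟨Functor.LaxMonoidal.μ (Over.pullback t) (Red.bc U.ι A) (Red.bc U.ι A) ≫ (Over.pullback t).map c, ?_⟩,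
      fun Γ' _ i' hi hic hfac => ?_⟩
    · rw [Category.assoc, ← Functor.map_comp, hc]
      exact μ_map_comm (Over.pullback t) _ _
    · haveI := hi
      haveI := hic
      exact exists_lift_fibre U.ι t a a d L hd Γ' i' hfac
  haveI := isMonHom_cmp hσ G
  haveI := isMonHom_cmp_inv hσ G
  have h := h0.transport (cmp hσ G) (cmp hσ A).symm (Iso.refl _)
  rw [Iso.refl_hom, Category.id_comp, Iso.symm_hom] at h
  rwa [cmp_naturality hσ a, Iso.inv_hom_id_assoc] at h

/-- The derived series of a normal subgroup scheme spreads out. -/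
theorem exists_derived : ∀ (n : ℕ) (S : Scheme.{u}) [IsIntegral S] (G A : Over S) [GrpObj G] [GrpObj A]
    [LocallyOfFinitePresentation G.hom] [QuasiCompact G.hom] [QuasiSeparated G.hom]
    [LocallyOfFinitePresentation A.hom] [QuasiCompact A.hom] [QuasiSeparated A.hom]
    (a : A ⟶ G) [IsMonHom a] [IsImmersion a.left], AlgGrp.IsNormalHom a →
    Smooth (Red.bc (S.fromSpecResidueField (genericPoint S)) A).hom →
    ∃ (T : Scheme.{u}) (_ : IsIntegral T) (j : T ⟶ S) (_ : IsOpenImmersion j) (D : Over T) (_ : GrpObj D)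
      (d : D ⟶ Red.bc j G), IsMonHom d ∧ IsClosedImmersion d.left ∧ AlgGrp.IsNormalHom d ∧
        LocallyOfFinitePresentation D.hom ∧ QuasiCompact D.hom ∧ QuasiSeparated D.hom ∧ Smooth D.hom ∧
        ∀ (k : Type u) [Field k] (t : Spec (CommRingCat.of k) ⟶ T) (σ : Spec (CommRingCat.of k) ⟶ S)
          (hσ : t ≫ j = σ), Chain (n + 1) ((Over.pullback σ).map a) ((Over.pullback t).map d ≫ (cmp hσ G).hom)
  | 0, S, _, G, A, _, _, _, _, _, _, _, _, a, _, _, hn, hsm => by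
    obtain ⟨U, hU, D, instD, d, hd, hdc, hlfp, hqc, hqs, hsmD, -, hnorm, hc, L, -, hL⟩ :=
      exists_comm_spread S G A A a a hsm hsm (.inr ⟨hn, hn⟩)
    haveI : Nonempty (U : Scheme.{u}) := ⟨⟨_, hU⟩⟩
    refine ⟨U, inferInstance, U.ι, inferInstance, D, instD, d, hd, hdc, hnorm ⟨hn, hn⟩, hlfp, hqc, hqs, hsmD,
      fun k _ t σ hσ => ?_⟩
    haveI := hd
    haveI := hdc
    haveI : IsMonHom ((Over.pullback t).map d) := Groth.L25.SpreadSub.isMonHom_map t d
    haveI : IsMonHom (cmp hσ G).hom := isMonHom_cmp hσ G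
    haveI := Groth.L25.SpreadSub.isIso_left (cmp hσ G).hom
    haveI : IsClosedImmersion ((Over.pullback t).map d).left :=
      MorphismProperty.of_isPullback (Groth.L25.SpreadSub.isPullback_map t d) hdc
    exact ⟨Red.bc t D, inferInstance, _, inferInstanceAs (IsMonHom (_ ≫ _)),
      by rw [Over.comp_left]; infer_instance,
      step_of_spread a d hsmD L hL hc t hσ, ⟨Iso.refl _, Category.id_comp _⟩⟩
  | n + 1, S, _, G, A, _, _, _, _, _, _, _, _, a, _, _, hn, hsm => by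
    obtain ⟨U, hU, D₁, instD₁, d₁, hd₁, hdc₁, hlfp₁, hqc₁, hqs₁, hsmD₁, -, hnorm₁, hc₁, L, -, hL⟩ :=
      exists_comm_spread S G A A a a hsm hsm (.inr ⟨hn, hn⟩)
    haveI : Nonempty (U : Scheme.{u}) := ⟨⟨_, hU⟩⟩
    haveI : IsIntegral (U : Scheme.{u}) := inferInstance
    haveI := hd₁
    haveI := hdc₁
    haveI := hlfp₁
    haveI := hqc₁
    haveI := hqs₁
    haveI : LocallyOfFinitePresentation (Red.bc U.ι G).hom :=
      inferInstanceAs (LocallyOfFinitePresentation (pullback.snd G.hom U.ι))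
    haveI : QuasiCompact (Red.bc U.ι G).hom := inferInstanceAs (QuasiCompact (pullback.snd G.hom U.ι))
    haveI : QuasiSeparated (Red.bc U.ι G).hom := inferInstanceAs (QuasiSeparated (pullback.snd G.hom U.ι))
    obtain ⟨T, instT, j, hj, D, instD, d, hd, hdc, hdn, hlfp, hqc, hqs, hsmD, hch⟩ :=
      exists_derived n (U : Scheme.{u}) (Red.bc U.ι G) D₁ d₁ (hnorm₁ ⟨hn, hn⟩)
        (MorphismProperty.pullback_snd _ _ hsmD₁)
    haveI := hd
    haveI := hdc
    haveI := hj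
    haveI : IsMonHom (cmp (Eq.refl (j ≫ U.ι)) G).hom := isMonHom_cmp _ G
    haveI := Groth.L25.SpreadSub.isIso_left (cmp (Eq.refl (j ≫ U.ι)) G).hom
    refine ⟨T, instT, j ≫ U.ι, inferInstance, D, instD, d ≫ (cmp (Eq.refl (j ≫ U.ι)) G).hom,
      inferInstanceAs (IsMonHom (_ ≫ _)), by rw [Over.comp_left]; infer_instance,
      isNormalHom_of_iso d _ (Iso.refl _) (cmp (Eq.refl (j ≫ U.ι)) G) (Category.id_comp _) hdn, hlfp, hqc, hqs,
      hsmD, fun k _ t σ hσ => ?_⟩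
    have h2 : (t ≫ j) ≫ U.ι = σ := by rw [Category.assoc]; exact hσ
    haveI : IsMonHom (cmp h2 G).hom := isMonHom_cmp h2 G
    haveI : IsMonHom (cmp h2 G).inv := isMonHom_cmp_inv h2 G
    haveI := Groth.L25.SpreadSub.isIso_left (cmp h2 G).hom
    haveI : IsMonHom ((Over.pullback (t ≫ j)).map d₁) := Groth.L25.SpreadSub.isMonHom_map _ d₁
    haveI : IsClosedImmersion ((Over.pullback (t ≫ j)).map d₁).left :=
      MorphismProperty.of_isPullback (Groth.L25.SpreadSub.isPullback_map (t ≫ j) d₁) hdc₁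
    have h := (hch k t (t ≫ j) rfl).transport (cmp h2 G) (n + 1) (Iso.refl _) (Iso.refl _)
    rw [Iso.refl_hom, Category.id_comp, Iso.refl_hom, Category.id_comp, Category.assoc,
      cmp_cocycle rfl h2 rfl hσ G, ← Category.assoc, ← Functor.map_comp] at h
    exact ⟨Red.bc (t ≫ j) D₁, inferInstance, _, inferInstanceAs (IsMonHom (_ ≫ _)),
      by rw [Over.comp_left]; infer_instance,
      step_of_spread a d₁ hsmD₁ L hL hc₁ (t ≫ j) h2, h⟩

end Groth.L25.GenWords
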