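import Groth.Agent.L25.GenWords.Generated
import Groth.Agent.L25.SpreadSub
import Groth.Agent.L19.Limit.ProperNearPoint
import Groth.Agent.L06.NRQuot
import Groth.Agent.L19.Limit.Immersion
import Groth.Agent.L19.Limit.Smooth
import Groth.Agent.L25.GenWords.ConsGeneric
import Groth.Agent.S12442
import Groth.Agent.S0420
import Mathlib.AlgebraicGeometry.FunctionField

/-!
# Spreading commutator subgroups out from the generic fibre
-/

set_option autoImplicit false
set_option maxSynthPendingDepth 3
set_option linter.style.haveILetI false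
set_option linter.unusedSectionVars false
set_option backward.isDefEq.respectTransparency.types false
set_option backward.isDefEq.respectTransparency false

universe u

open CategoryTheory CategoryTheory.Limits MonoidalCategory CartesianMonoidalCategory MonObj AlgebraicGeometry
open Topology Groth.L25.LimHom Groth.L19.Limit

noncomputable section

namespace Groth.L25.GenWords

theorem range_subset_of_comp' {S : Scheme.{u}} {T U V : Over S} {m : T ⟶ V} (r : T ⟶ U) {m' : U ⟶ V}
    (h : r ≫ m' = m) : Set.range m.left ⊆ Set.range m'.left := by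
  subst h
  rw [Over.comp_left, Scheme.Hom.comp_base, TopCat.coe_comp]
  exact Set.range_comp_subset_range _ _

/-- Ranges of commutator words under base change. -/
theorem range_word_comm_map {S S' : Scheme.{u}} (t : S' ⟶ S) {G A B : Over S} [GrpObj G] (a : A ⟶ G) (b : B ⟶ G)
    (l : List Bool) :
    Set.range (word (G := (Over.pullback t).obj G) (comm ((Over.pullback t).map a) ((Over.pullback t).map b)) l).left =
      pullback.fst G.hom t ⁻¹' Set.range (word (comm a b) l).left := by
  let F := Over.pullback t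
  let c := comm a b
  let ν := Functor.LaxMonoidal.μ F A B
  have hν : ν ≫ F.map c = comm (F.map a) (F.map b) := μ_map_comm F a b
  rw [← range_map t (word c l)]
  refine subset_antisymm ?_ ?_
  · obtain ⟨r, hr⟩ := exists_precomp ν (F.map c) l
    obtain ⟨r', hr'⟩ := exists_toMap F c l
    rw [hν] at hr
    exact range_subset_of_comp' (r ≫ r') (by rw [Category.assoc]; exact (congrArg (r ≫ ·) hr').trans hr)
  · obtain ⟨r, hr⟩ := exists_ofMap F c l
    obtain ⟨r', hr'⟩ := exists_precomp (inv ν) (comm (F.map a) (F.map b)) l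
    rw [show inv ν ≫ comm (F.map a) (F.map b) = F.map c by rw [← hν, IsIso.inv_hom_id_assoc]] at hr'
    exact range_subset_of_comp' (r ≫ r') (by rw [Category.assoc]; exact (congrArg (r ≫ ·) hr').trans hr)

section Point

variable {X : Scheme.{u}} [IsIntegral X] {U : X.Opens} (ηU : Spec X.functionField ⟶ (U : Scheme.{u}))
  (hη : ηU ≫ U.ι = X.fromSpecStalk (genericPoint X))

include hη in
theorem apply_eq (z : Spec X.functionField) : U.ι (ηU z) = genericPoint X := by
  rw [← Scheme.Hom.comp_apply, hη]
  obtain rfl : z = IsLocalRing.closedPoint X.functionField := Subsingleton.elim (α := PrimeSpectrum X.functionField) _ _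
  exact Scheme.fromSpecStalk_closedPoint

include hη in
/-- A property which descends along limits spreads from the generic point. -/
theorem exists_nhd {P : MorphismProperty Scheme.{u}} [P.IsStableUnderBaseChange]
    (hP : Descends P qcqsfp) {Z Y : Scheme.{u}} (f : Z ⟶ Y) (g : Y ⟶ (U : Scheme.{u})) [QuasiCompact g]
    (hf : qcqsfp f) (h : Pb P f (pullback.fst g ηU)) :
    ∃ W : (U : Scheme.{u}).Opens, (∀ z, ηU z ∈ W) ∧ Pb P f (g ⁻¹ᵁ W).ι := by
  obtain ⟨z₀⟩ : Nonempty (Spec X.functionField) := inferInstanceAs (Nonempty (PrimeSpectrum X.functionField))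
  have hall : ∀ z, ηU z = ηU z₀ := fun z => congrArg ηU (Subsingleton.elim (α := PrimeSpectrum X.functionField) _ _)
  have hmem : genericPoint X ∈ U := apply_eq ηU hη z₀ ▸ (ηU z₀).2
  let p : (U : Scheme.{u}) := ⟨genericPoint X, hmem⟩
  have hp : ∀ z, ηU z = p := fun z => Subtype.ext (apply_eq ηU hη z)
  let e : Spec X.functionField ≅ Spec ((U : Scheme.{u}).presheaf.stalk p) :=
    Scheme.Spec.mapIso (U.stalkIso p).op
  have he : e.inv ≫ ηU = (U : Scheme.{u}).fromSpecStalk p := by
    rw [← cancel_mono U.ι, Category.assoc, hη, show e.inv = Spec.map (U.stalkIso p).inv from rfl,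
      Scheme.Opens.stalkIso_inv]
    exact Scheme.SpecMap_stalkMap_fromSpecStalk U.ι (x := p)
  obtain ⟨W, hpW, hW⟩ := exists_nhd_pb f g p hP hf (by
    have := pb_comp (pullback.map g ((U : Scheme.{u}).fromSpecStalk p) g ηU (𝟙 _) e.inv (𝟙 _)
      (by simp) (by simp [he])) h
    rwa [pullback.lift_fst, Category.comp_id] at this)
  exact ⟨W, fun z => (hp z).symm ▸ hpW, hW⟩

include hη in
/-- Factorisation through a closed immersion spreads from the generic point. -/
theorem exists_factor_nhd {P Q : Over (U : Scheme.{u})} [QuasiCompact P.hom] [QuasiSeparated P.hom]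
    [LocallyOfFinitePresentation P.hom] {G : Over (U : Scheme.{u})} [LocallyOfFiniteType G.hom]
    [LocallyOfFinitePresentation Q.hom] [QuasiCompact Q.hom] (j : Q ⟶ G) [IsClosedImmersion j.left] (x : P ⟶ G)
    (h : ∃ y, y ≫ (Over.pullback ηU).map j = (Over.pullback ηU).map x) :
    ∃ W : (U : Scheme.{u}).Opens, (∀ z, ηU z ∈ W) ∧ ∀ (V : Scheme.{u}) (v : V ⟶ (U : Scheme.{u})),
      Set.range v ⊆ W → ∃ y, y ≫ (Over.pullback v).map j = (Over.pullback v).map x := by
  haveI : LocallyOfFinitePresentation j.left := by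
    haveI : LocallyOfFinitePresentation (j.left ≫ G.hom) := by rw [Over.w]; infer_instance
    exact Groth.Agent.S12442.result j.left G.hom
  let q := pullback.fst x.left j.left
  have hf : qcqsfp q := ⟨⟨inferInstance, inferInstance⟩, MorphismProperty.pullback_fst _ _ ‹_›⟩
  -- lifting is the same as the base change being an isomorphism
  have key : ∀ {T : Scheme.{u}} (m : T ⟶ P.left),
      Pb (MorphismProperty.isomorphisms Scheme.{u}) q m ↔ ∃ y : T ⟶ Q.left, y ≫ j.left = m ≫ x.left := by
    intro T m
    constructor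
    · intro hm
      haveI : IsIso (pullback.fst m q) := hm
      refine ⟨inv (pullback.fst m q) ≫ pullback.snd m q ≫ pullback.snd x.left j.left, ?_⟩
      rw [Category.assoc, Category.assoc, ← pullback.condition, ← Category.assoc (pullback.snd m q),
        ← pullback.condition, Category.assoc, IsIso.inv_hom_id_assoc]
    · rintro ⟨y, hy⟩
      let s : T ⟶ pullback m q := pullback.lift (𝟙 T) (pullback.lift m y hy.symm) (by rw [pullback.lift_fst, Category.id_comp])
      have hs : s ≫ pullback.fst m q = 𝟙 T := pullback.lift_fst _ _ _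
      exact ⟨s, by rw [← cancel_mono (pullback.fst m q), Category.assoc, hs, Category.comp_id, Category.id_comp], hs⟩
  obtain ⟨y, hy⟩ := h
  obtain ⟨W, hW, hWp⟩ := exists_nhd ηU hη descends_isIso q P.hom hf ((key _).2 ⟨y.left ≫ pullback.fst Q.hom ηU, by
    rw [Category.assoc, ← Groth.L25.SpreadSub.map_fst ηU j, ← Category.assoc, ← Over.comp_left, hy,
      Groth.L25.SpreadSub.map_fst]⟩)
  refine ⟨W, hW, fun V v hv => ?_⟩
  obtain ⟨yW, hyW⟩ := (key _).1 hWp
  let m := IsOpenImmersion.lift (P.hom ⁻¹ᵁ W).ι (pullback.fst P.hom v) (by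
    rw [Scheme.Opens.range_ι]
    rintro _ ⟨w, rfl⟩
    exact hv ⟨pullback.snd P.hom v w, congrArg (fun f : _ ⟶ (U : Scheme.{u}) => f w) pullback.condition.symm⟩)
  have hm : m ≫ yW ≫ j.left = pullback.fst P.hom v ≫ x.left := by
    rw [hyW, IsOpenImmersion.lift_fac_assoc]
  have hw : (m ≫ yW) ≫ Q.hom = pullback.snd P.hom v ≫ v := by
    rw [Category.assoc, ← Over.w j, reassoc_of% hm, Over.w x, pullback.condition]
  refine ⟨Over.homMk (pullback.lift (m ≫ yW) (pullback.snd P.hom v) hw) (pullback.lift_snd _ _ _), ?_⟩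
  apply Over.OverMorphism.ext
  apply pullback.hom_ext
  · rw [Over.comp_left, Category.assoc]
    erw [Groth.L25.SpreadSub.map_fst v j, Groth.L25.SpreadSub.map_fst v x]
    erw [pullback.lift_fst_assoc]
    rw [Category.assoc, hm]
  · exact (Over.w _).trans (Over.w ((Over.pullback v).map x)).symm

include hη in
/-- Finitely many morphisms jointly surjective over the generic point are so over a neighbourhood. -/
theorem exists_cover_nhd {Y : Scheme.{u}} (g : Y ⟶ (U : Scheme.{u})) [QuasiCompact g] [QuasiSeparated g]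
    [LocallyOfFinitePresentation g] (E : Set Y) (hE : IsLocallyConstructible E)
    (h : ∀ y, (∃ z, ηU z = g y) → y ∈ E) :
    ∃ W : (U : Scheme.{u}).Opens, (∀ z, ηU z ∈ W) ∧ ∀ y, g y ∈ W → y ∈ E := by
  have hc : IsLocallyConstructible (g '' Eᶜ)ᶜ :=
    Groth.L06.NRQuot.isLocallyConstructible_compl
      (g.isLocallyConstructible_image (Groth.L06.NRQuot.isLocallyConstructible_compl hE))
  obtain ⟨z₀⟩ : Nonempty (Spec X.functionField) := inferInstanceAs (Nonempty (PrimeSpectrum X.functionField))
  have hmem : genericPoint X ∈ U := apply_eq ηU hη z₀ ▸ (ηU z₀).2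
  haveI : Nonempty (U : Scheme.{u}) := ⟨⟨genericPoint X, hmem⟩⟩
  haveI : IrreducibleSpace (U : Scheme.{u}) := inferInstance
  have hgp : ∀ z, ηU z = genericPoint (U : Scheme.{u}) := fun z => Subtype.ext (by
    show U.ι (ηU z) = U.ι (genericPoint (U : Scheme.{u}))
    rw [apply_eq ηU hη z, genericPoint_eq_of_isOpenImmersion U.ι])
  have hnot : genericPoint (U : Scheme.{u}) ∈ (g '' Eᶜ)ᶜ := by
    rintro ⟨y, hy, hy'⟩
    exact hy (h y ⟨z₀, (hgp z₀).trans hy'.symm⟩)
  obtain ⟨W, hW, hWo, hWη⟩ := mem_nhds_iff.1 (Groth.L25.GenWords.ConsGeneric.mem_nhds_of_isLocallyConstructible hc hnot)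
  exact ⟨⟨W, hWo⟩, fun z => (hgp z).symm ▸ hWη, fun y hy => by_contra fun hn => hW hy ⟨y, hn, rfl⟩⟩

end Point

end Groth.L25.GenWords
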