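import Groth.Agent.L25.GenWords.Generated

/-!
# Sets swept out by finitely many words are swept out by words of one length
-/

set_option autoImplicit false
set_option maxSynthPendingDepth 3
set_option linter.style.haveILetI false
set_option backward.isDefEq.respectTransparency.types false

universe u

open CategoryTheory CategoryTheory.Limits MonoidalCategory CartesianMonoidalCategory MonObj GrpObj AlgebraicGeometry

noncomputable section

namespace Groth.L25.GenWords

/-- If finitely many words sweep out a subgroup and the unit is in the image, words of one length do. -/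
theorem exists_fixed_length {k : Type u} [Field k] {G X Γ : Over (Spec (CommRingCat.of k))} [GrpObj G] [GrpObj Γ]
    (f : X ⟶ G)
    (he : ∃ x : X.left, f.left.base x ∈ Set.range (η[G] : 𝟙_ (Over (Spec (CommRingCat.of k))) ⟶ G).left.base)
    (i : Γ ⟶ G) [IsMonHom i] (hf : ∃ f' : X ⟶ Γ, f' ≫ i = f) (L : Set (List Bool)) (hLfin : L.Finite)
    (hr : Set.range i.left = ⋃ l ∈ L, Set.range (word f l).left) :
    ∃ N : ℕ, Set.range i.left.base =
      {g : G.left | ∃ (T : Over (Spec (CommRingCat.of k))) (p : T.left) (x : Fin N → (T ⟶ X)) (ε : Fin N → Bool),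
        ((List.ofFn fun j : Fin N => if ε j then x j ≫ f else (x j ≫ f)⁻¹).prod : T ⟶ G).left.base p = g} := by
  -- products of a given length
  let Good : ℕ → ∀ T : Over (Spec (CommRingCat.of k)), (T ⟶ G) → Prop := fun n T m =>
    ∃ (x : Fin n → (T ⟶ X)) (ε : Fin n → Bool),
      (List.ofFn fun j : Fin n => if ε j then x j ≫ f else (x j ≫ f)⁻¹).prod = m
  have good_cons : ∀ n T m (y : T ⟶ X) (b : Bool), Good n T m →
      Good (n + 1) T ((if b then y ≫ f else (y ≫ f)⁻¹) * m) := by
    rintro n T m y b ⟨x, ε, rfl⟩
    refine ⟨Fin.cons y x, Fin.cons b ε, ?_⟩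
    rw [List.ofFn_succ, List.prod_cons]
    simp only [Fin.cons_zero, Fin.cons_succ]
  have good_word : ∀ (l : List Bool) (T : Over (Spec (CommRingCat.of k))) (t : T ⟶ W X l),
      Good l.length T (t ≫ word f l) := by
    intro l
    induction l with
    | nil =>
      intro T t
      refine ⟨Fin.elim0, Fin.elim0, ?_⟩
      rw [List.ofFn_zero, List.prod_nil]
      exact (MonObj.comp_one (M := G) t).symm
    | cons b l ih =>
      suffices hs : ∀ (T : Over (Spec (CommRingCat.of k))) (t : T ⟶ X ⊗ W X l), Good (l.length + 1) T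
          (t ≫ ((fst X (W X l) ≫ (if b then f else f⁻¹)) * (snd X (W X l) ≫ word f l))) from hs
      intro T t
      rw [MonObj.comp_mul, ← Category.assoc, ← Category.assoc]
      have h := good_cons l.length T _ (t ≫ fst X (W X l)) b (ih T (t ≫ snd X (W X l)))
      cases b
      · simpa [GrpObj.comp_inv] using h
      · simpa using h
  obtain ⟨f', hf'⟩ := hf
  obtain ⟨N, hN⟩ := (hLfin.image List.length).bddAbove
  refine ⟨N, Set.ext fun g => ⟨fun hg => ?_, ?_⟩⟩
  · rw [show Set.range (i.left.base : Γ.left → G.left) = _ from hr] at hg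
    obtain ⟨l, hl, w, hw⟩ := Set.mem_iUnion₂.1 hg
    -- a point of the family over the unit
    obtain ⟨x₀, u₀, hu⟩ := he
    let Z : Over (Spec (CommRingCat.of k)) := Over.mk (pullback.fst f.left η[G].left ≫ X.hom)
    obtain ⟨z, -, -⟩ := Scheme.Pullback.exists_preimage_pullback (f := f.left) (g := η[G].left) x₀ u₀ hu.symm
    let pad : Z ⟶ X := Over.homMk (pullback.fst f.left η[G].left) rfl
    let toOne : Z ⟶ 𝟙_ (Over (Spec (CommRingCat.of k))) := Over.homMk (pullback.snd f.left η[G].left) (by
      show pullback.snd f.left η[G].left ≫ _ = pullback.fst f.left η[G].left ≫ X.hom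
      rw [← Over.w f, pullback.condition_assoc, Over.w η[G]])
    have hpad : pad ≫ f = 1 := by
      rw [Hom.one_def, toUnit_unique (toUnit Z) toOne]
      exact Over.OverMorphism.ext pullback.condition
    let T := W X l ⊗ Z
    have hpad' : ∀ n m, Good n T m → Good (n + 1) T m := fun n m h => by
      have := good_cons n T m (snd (W X l) Z ≫ pad) true h
      simpa [Category.assoc, hpad] using this
    have hmono : ∀ d, Good (l.length + d) T (fst (W X l) Z ≫ word f l) := fun d => by
      induction d with
      | zero => exact good_word l T _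
      | succ d ih => exact hpad' _ _ ih
    obtain ⟨d, hd⟩ := Nat.exists_eq_add_of_le (hN ⟨l, hl, rfl⟩)
    obtain ⟨x, ε, hx⟩ := hd ▸ hmono d
    obtain ⟨p, hp, -⟩ := Scheme.Pullback.exists_preimage_pullback (f := (W X l).hom) (g := Z.hom) w z
      (Subsingleton.elim (α := PrimeSpectrum k) _ _)
    refine ⟨T, p, x, ε, ?_⟩
    rw [hx, ← hw]
    exact congrArg (word f l).left hp
  · rintro ⟨T, p, x, ε, rfl⟩
    let φ : (T ⟶ Γ) →* (T ⟶ G) :=
      { toFun := fun h => h ≫ i, map_one' := MonObj.one_comp i, map_mul' := fun a b => MonObj.mul_comp a b i }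
    have e : (List.ofFn fun j : Fin N => if ε j then x j ≫ f else (x j ≫ f)⁻¹) =
        (List.ofFn fun j : Fin N => if ε j then x j ≫ f' else (x j ≫ f')⁻¹).map φ := by
      rw [List.map_ofFn]
      congr 1
      funext j
      cases hε : ε j <;> simp [φ, hε, ← hf', GrpObj.inv_comp]
    rw [e, ← map_list_prod]
    exact ⟨_, rfl⟩


end Groth.L25.GenWords
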