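import Groth.Prelude.Def_AlgGrp
import Mathlib.CategoryTheory.Monoidal.Cartesian.Grp

/-!
# Words in a morphism to a group object, and their behaviour under monoidal functors
-/

set_option autoImplicit false
set_option backward.isDefEq.respectTransparency.types false

universe v v' w w'

open CategoryTheory CategoryTheory.Limits MonoidalCategory CartesianMonoidalCategory MonObj

noncomputable section

namespace Groth.L25.GenWords

variable {C : Type w} [Category.{v} C] [CartesianMonoidalCategory C]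

/-- The source of a word. -/
def W (X : C) : List Bool → C
  | [] => 𝟙_ C
  | _ :: l => X ⊗ W X l

variable {G X : C} [GrpObj G]

/-- A word in a morphism and its inverse. -/
def word (f : X ⟶ G) : ∀ l : List Bool, W X l ⟶ G
  | [] => 1
  | b :: l => (fst X (W X l) ≫ (if b then f else f⁻¹)) * (snd X (W X l) ≫ word f l)

theorem exists_append (f : X ⟶ G) : ∀ l l' : List Bool, ∃ r : W X l ⊗ W X l' ⟶ W X (l ++ l'),
    r ≫ word f (l ++ l') = (fst _ _ ≫ word f l) * (snd _ _ ≫ word f l')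
  | [], l' => ⟨snd _ _, by simp [word]⟩
  | b :: l, l' => by
    obtain ⟨r, hr⟩ := exists_append f l l'
    suffices hs : ∃ q : (X ⊗ W X l) ⊗ W X l' ⟶ X ⊗ W X (l ++ l'),
        q ≫ ((fst X (W X (l ++ l')) ≫ (if b then f else f⁻¹)) * (snd X (W X (l ++ l')) ≫ word f (l ++ l'))) =
        (fst (X ⊗ W X l) _ ≫ ((fst X (W X l) ≫ (if b then f else f⁻¹)) * (snd X (W X l) ≫ word f l))) *
          (snd (X ⊗ W X l) _ ≫ word f l') from hs
    refine ⟨lift (fst _ _ ≫ fst X (W X l)) (lift (fst _ _ ≫ snd X (W X l)) (snd _ _) ≫ r), ?_⟩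
    rw [MonObj.comp_mul, lift_fst_assoc, lift_snd_assoc, Category.assoc _ r, hr, MonObj.comp_mul,
      lift_fst_assoc, lift_snd_assoc, MonObj.comp_mul]
    simp only [Category.assoc, _root_.mul_assoc]

theorem exists_single (f : X ⟶ G) (b : Bool) : ∃ r : X ⟶ W X [b], r ≫ word f [b] = if b then f else f⁻¹ := by
  suffices hs : ∃ r : X ⟶ X ⊗ 𝟙_ C,
      r ≫ ((fst X (𝟙_ C) ≫ (if b then f else f⁻¹)) * (snd X (𝟙_ C) ≫ (1 : 𝟙_ C ⟶ G))) = if b then f else f⁻¹ from hs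
  exact ⟨lift (𝟙 X) (toUnit X), by simp⟩

theorem exists_inv (f : X ⟶ G) : ∀ l : List Bool, ∃ (l' : List Bool) (r : W X l ⟶ W X l'),
    r ≫ word f l' = (word f l)⁻¹
  | [] => ⟨[], 𝟙 _, by simp [word]⟩
  | b :: l => by
    obtain ⟨l', r, hr⟩ := exists_inv f l
    obtain ⟨s, hs⟩ := exists_append f l' [!b]
    obtain ⟨v, hv⟩ := exists_single f (!b)
    suffices hq : ∃ q : X ⊗ W X l ⟶ W X (l' ++ [!b]),
        q ≫ word f (l' ++ [!b]) = ((fst X (W X l) ≫ (if b then f else f⁻¹)) * (snd X (W X l) ≫ word f l))⁻¹ from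
      ⟨l' ++ [!b], hq⟩
    refine ⟨lift (snd X (W X l) ≫ r) (fst X (W X l) ≫ v) ≫ s, ?_⟩
    rw [Category.assoc, hs, MonObj.comp_mul, lift_fst_assoc, lift_snd_assoc, Category.assoc, hr,
      Category.assoc, hv, mul_inv_rev, GrpObj.comp_inv, ← GrpObj.comp_inv (fst X (W X l))]
    cases b <;> simp

theorem exists_factor (f : X ⟶ G) {N : C} [GrpObj N] (i : N ⟶ G) [IsMonHom i]
    (g : X ⟶ N) (hg : g ≫ i = f) : ∀ l, ∃ h : W X l ⟶ N, h ≫ i = word f l
  | [] => ⟨1, MonObj.one_comp i⟩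
  | b :: l => by
    obtain ⟨h, hh⟩ := exists_factor f i g hg l
    suffices hs : ∃ q : X ⊗ W X l ⟶ N,
        q ≫ i = (fst X (W X l) ≫ (if b then f else f⁻¹)) * (snd X (W X l) ≫ word f l) from hs
    refine ⟨(fst X (W X l) ≫ (if b then g else g⁻¹)) * (snd X (W X l) ≫ h), ?_⟩
    rw [MonObj.mul_comp, Category.assoc, Category.assoc, hh]
    congr 2
    cases b
    · show g⁻¹ ≫ i = f⁻¹
      rw [GrpObj.inv_comp, hg]
    · exact hg

theorem exists_precomp {X' : C} (φ : X' ⟶ X) (f : X ⟶ G) :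
    ∀ l, ∃ r : W X' l ⟶ W X l, r ≫ word f l = word (φ ≫ f) l
  | [] => ⟨𝟙 _, Category.id_comp _⟩
  | b :: l => by
    obtain ⟨r, hr⟩ := exists_precomp φ f l
    suffices hs : ∃ q : X' ⊗ W X' l ⟶ X ⊗ W X l,
        q ≫ ((fst X (W X l) ≫ (if b then f else f⁻¹)) * (snd X (W X l) ≫ word f l)) =
          (fst X' (W X' l) ≫ (if b then φ ≫ f else (φ ≫ f)⁻¹)) * (snd X' (W X' l) ≫ word (φ ≫ f) l) from hs
    refine ⟨φ ⊗ₘ r, ?_⟩
    rw [MonObj.comp_mul, tensorHom_fst_assoc, tensorHom_snd_assoc, hr]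
    cases b <;> simp [GrpObj.comp_inv]

section Functor

variable {D : Type w'} [Category.{v'} D] [CartesianMonoidalCategory D] (F : C ⥤ D) [F.Monoidal]

open scoped CategoryTheory.Obj

theorem exists_toMap (f : X ⟶ G) : ∀ l, ∃ r : W (F.obj X) l ⟶ F.obj (W X l),
    r ≫ F.map (word f l) = word (F.map f) l
  | [] => by
    suffices hs : ∃ r : 𝟙_ D ⟶ F.obj (𝟙_ C), r ≫ F.map (1 : 𝟙_ C ⟶ G) = 1 from hs
    exact ⟨Functor.LaxMonoidal.ε F, by simp⟩
  | b :: l => by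
    obtain ⟨r, hr⟩ := exists_toMap f l
    suffices hs : ∃ q : F.obj X ⊗ W (F.obj X) l ⟶ F.obj (X ⊗ W X l),
        q ≫ F.map ((fst X (W X l) ≫ (if b then f else f⁻¹)) * (snd X (W X l) ≫ word f l)) =
          (fst (F.obj X) (W (F.obj X) l) ≫ (if b then F.map f else (F.map f)⁻¹)) *
            (snd (F.obj X) (W (F.obj X) l) ≫ word (F.map f) l) from hs
    refine ⟨(F.obj X ◁ r) ≫ Functor.LaxMonoidal.μ F X (W X l), ?_⟩
    rw [Functor.map_mul, MonObj.comp_mul, Category.assoc, Category.assoc, Functor.map_comp, Functor.map_comp,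
      Functor.Monoidal.μ_fst_assoc, Functor.Monoidal.μ_snd_assoc, whiskerLeft_fst_assoc, whiskerLeft_snd_assoc, hr]
    cases b <;> simp

theorem exists_ofMap (f : X ⟶ G) : ∀ l, ∃ r : F.obj (W X l) ⟶ W (F.obj X) l,
    r ≫ word (F.map f) l = F.map (word f l)
  | [] => by
    suffices hs : ∃ r : F.obj (𝟙_ C) ⟶ 𝟙_ D, r ≫ (1 : 𝟙_ D ⟶ F.obj G) = F.map (1 : 𝟙_ C ⟶ G) from hs
    exact ⟨toUnit _, by simp⟩
  | b :: l => by
    obtain ⟨r, hr⟩ := exists_ofMap f l
    suffices hs : ∃ q : F.obj (X ⊗ W X l) ⟶ F.obj X ⊗ W (F.obj X) l,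
        q ≫ ((fst (F.obj X) (W (F.obj X) l) ≫ (if b then F.map f else (F.map f)⁻¹)) *
            (snd (F.obj X) (W (F.obj X) l) ≫ word (F.map f) l)) =
          F.map ((fst X (W X l) ≫ (if b then f else f⁻¹)) * (snd X (W X l) ≫ word f l)) from hs
    refine ⟨lift (F.map (fst X (W X l))) (F.map (snd X (W X l)) ≫ r), ?_⟩
    rw [Functor.map_mul, MonObj.comp_mul, lift_fst_assoc, lift_snd_assoc, Category.assoc, hr, Functor.map_comp,
      Functor.map_comp]
    cases b <;> simp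

end Functor

/-- The commutator morphism of two morphisms to a group object. -/
abbrev comm {A B : C} (a : A ⟶ G) (b : B ⟶ G) : A ⊗ B ⟶ G :=
  (fst A B ≫ a) * (snd A B ≫ b) * (fst A B ≫ a)⁻¹ * (snd A B ≫ b)⁻¹

theorem comp_comm {A B T : C} (a : A ⟶ G) (b : B ⟶ G) (t : T ⟶ A ⊗ B) :
    t ≫ comm a b = ((t ≫ fst A B) ≫ a) * ((t ≫ snd A B) ≫ b) * ((t ≫ fst A B) ≫ a)⁻¹ * ((t ≫ snd A B) ≫ b)⁻¹ := by
  simp only [comm, MonObj.comp_mul, GrpObj.comp_inv, Category.assoc]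

open scoped CategoryTheory.Obj in
theorem μ_map_comm {D : Type w'} [Category.{v'} D] [CartesianMonoidalCategory D] (F : C ⥤ D) [F.Monoidal]
    {A B : C} (a : A ⟶ G) (b : B ⟶ G) :
    Functor.LaxMonoidal.μ F A B ≫ F.map (comm a b) = comm (F.map a) (F.map b) := by
  simp only [comm, Functor.map_mul, Functor.map_inv', Functor.map_comp, MonObj.comp_mul, GrpObj.comp_inv,
    Functor.Monoidal.μ_fst_assoc, Functor.Monoidal.μ_snd_assoc]

end Groth.L25.GenWords
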